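import Cfsg.Agent.H3.Asch.FreeFixed
import Mathlib.GroupTheory.Solvable
import Mathlib.GroupTheory.SpecificGroups.Cyclic

/-!
The setting-free half of the kill for `k > 0`.  `V` is an elementary abelian `2`-group with an alternating map
`β` into `Z`, `E` a totally isotropic class, its images under a group `O` of isometries pairwise non-degenerate.
A torus `A` centralising `E` and acting on `Z` by a multiplier has no third class fixed by a scalar action, so the
stabiliser of `E` in a minimal group moving it is trivial on all classes and the count of fixed points bounds `A`.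
-/

set_option autoImplicit false
set_option linter.style.haveILetI false

namespace Cfsg.Agent.H3.Asch.RankModule

open Subgroup
open scoped commutatorElement

variable {V : Type*} [CommGroup V] {Z : Type*} [CommGroup Z]

/-- `x` acts on `C` through the multiplier `r` for `β`. -/
def ScalarOn (β : V →* V →* Z) (x : MulAut V) (C : Subgroup V) (r : MulAut Z) : Prop :=
  ∀ c ∈ C, x c ∈ C ∧ ∀ v, β (x c) v = r (β c v)

/-- All pairs of non-trivial elements of the two classes pair non-trivially. -/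
def Cross (β : V →* V →* Z) (C D : Subgroup V) : Prop :=
  ∀ c ∈ C, c ≠ 1 → ∀ d ∈ D, d ≠ 1 → β c d ≠ 1

/-- Two scalar actions on classes pairing non-trivially multiply to the multiplier. -/
theorem mul_eq_multiplier {β : V →* V →* Z} (hsym : ∀ v w, β w v = β v w) {R : Subgroup (MulAut Z)}
    (hfpf : ∀ r ∈ R, ∀ z, z ≠ 1 → r z = z → r = 1) {x : MulAut V} {ρ r s : MulAut Z} (hρ : ρ ∈ R)
    (hr : r ∈ R) (hs : s ∈ R) (hmul : ∀ v w, β (x v) (x w) = ρ (β v w)) {C D : Subgroup V}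
    (hC : ScalarOn β x C r) (hD : ScalarOn β x D s) (hCD : Cross β C D) (hC1 : C ≠ ⊥) (hD1 : D ≠ ⊥) :
    r * s = ρ := by
  obtain ⟨c, hc, hc1⟩ := C.bot_or_exists_ne_one.resolve_left hC1
  obtain ⟨d, hd, hd1⟩ := D.bot_or_exists_ne_one.resolve_left hD1
  have h1 : ρ (β c d) = (r * s) (β c d) := by
    rw [MulAut.mul_apply, ← hmul, (hC c hc).2, hsym (x d) c, (hD d hd).2, hsym c d]
  have h2 := hfpf (ρ⁻¹ * (r * s)) (mul_mem (inv_mem hρ) (mul_mem hr hs)) _ (hCD c hc hc1 d hd hd1)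
    (by rw [MulAut.mul_apply, ← h1, MulAut.inv_apply_self])
  exact (inv_mul_eq_one.mp h2).symm

/-- With three classes fixed by scalars the multiplier and all scalars are trivial, if one of them is. -/
theorem eq_one_of_three [Finite Z] {β : V →* V →* Z} (hsym : ∀ v w, β w v = β v w) {R : Subgroup (MulAut Z)}
    (hfpf : ∀ r ∈ R, ∀ z, z ≠ 1 → r z = z → r = 1)
    (hodd : Odd (Nat.card R)) {x : MulAut V} {ρ r₁ r₂ r₃ : MulAut Z} (hρ : ρ ∈ R) (h₁ : r₁ ∈ R)
    (h₂ : r₂ ∈ R) (h₃ : r₃ ∈ R) (hmul : ∀ v w, β (x v) (x w) = ρ (β v w)) {C₁ C₂ C₃ : Subgroup V}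
    (s₁ : ScalarOn β x C₁ r₁) (s₂ : ScalarOn β x C₂ r₂) (s₃ : ScalarOn β x C₃ r₃)
    (h12 : Cross β C₁ C₂) (h13 : Cross β C₁ C₃) (h23 : Cross β C₂ C₃)
    (n₁ : C₁ ≠ ⊥) (n₂ : C₂ ≠ ⊥) (n₃ : C₃ ≠ ⊥) (htriv : ρ = 1 ∨ r₁ = 1) :
    ρ = 1 ∧ r₁ = 1 ∧ r₂ = 1 ∧ r₃ = 1 := by
  have e12 := mul_eq_multiplier hsym hfpf hρ h₁ h₂ hmul s₁ s₂ h12 n₁ n₂
  have e13 := mul_eq_multiplier hsym hfpf hρ h₁ h₃ hmul s₁ s₃ h13 n₁ n₃
  have e23 := mul_eq_multiplier hsym hfpf hρ h₂ h₃ hmul s₂ s₃ h23 n₂ n₃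
  obtain rfl : r₂ = r₃ := mul_left_cancel (e12.trans e13.symm)
  obtain rfl : r₁ = r₂ := mul_right_cancel (e13.trans e23.symm)
  have hsq : r₁ * r₁ = ρ := e12
  have h1 : r₁ = 1 := by
    rcases htriv with h | h
    · rw [← orderOf_eq_one_iff]
      have hd : orderOf r₁ ∣ 2 := orderOf_dvd_of_pow_eq_one (by rw [pow_two, hsq, h])
      have ho : Odd (orderOf r₁) := by
        rw [← Subgroup.orderOf_mk r₁ h₁]
        exact hodd.of_dvd_nat (orderOf_dvd_natCard _)
      exact Nat.eq_one_of_dvd_coprimes (Nat.coprime_two_left.mpr ho) hd dvd_rfl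
    · exact h
  exact ⟨by rw [← hsq, h1, one_mul], h1, h1, h1⟩

/-- The data: a class `E`, isometries `O`, a torus `A`, the multipliers `R`. -/
structure ClassData (β : V →* V →* Z) (E : Subgroup V) (A O : Subgroup (MulAut V))
    (R : Subgroup (MulAut Z)) : Prop where
  alt : ∀ v, β v v = 1
  sym : ∀ v w, β w v = β v w
  ne_bot : E ≠ ⊥
  cross : ∀ g ∈ O, E.map g.toMonoidHom ≠ E → Cross β E (E.map g.toMonoidHom)
  isometry : ∀ g ∈ O, ∀ v w, β (g v) (g w) = β v w
  scalar : ∀ g ∈ O, E.map g.toMonoidHom = E → ∃ r ∈ R, ScalarOn β g E r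
  centralizes : ∀ a ∈ A, ∀ e ∈ E, a e = e
  normalizes : ∀ a ∈ A, ∀ g ∈ O, a * g * a⁻¹ ∈ O
  torus : ∀ a ∈ A, ∃ r ∈ R, ∀ v w, β (a v) (a w) = r (β v w)
  fpf : ∀ r ∈ R, ∀ z, z ≠ 1 → r z = z → r = 1
  odd_R : Odd (Nat.card R)
  odd_O : Odd (Nat.card O)
  /-- No group of isometries moves `E` inside the fixed points of an element of `A` centralising `Z`. -/
  split : ∀ a ∈ A, a ≠ 1 → (∀ v w, β (a v) (a w) = β v w) → ∀ O' : Subgroup (MulAut V), O' ≤ O →
    (∀ g ∈ O', ∀ e ∈ E, a (g e) = g e) → ∀ g ∈ O', E.map g.toMonoidHom = E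

/-- The stabiliser of a subgroup. -/
def stabSub (W : Subgroup V) : Subgroup (MulAut V) where
  carrier := {g | ∀ w, g w ∈ W ↔ w ∈ W}
  one_mem' := fun w => Iff.rfl
  mul_mem' := fun {g h} hg hh w => (hg (h w)).trans (hh w)
  inv_mem' := fun {g} hg w => by
    have := hg (g⁻¹ w)
    rwa [MulAut.apply_inv_self, iff_comm] at this

/-- Restriction of automorphisms to an invariant subgroup. -/
def restrictAut (W : Subgroup V) : stabSub W →* MulAut W where
  toFun g :=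
    { toFun := fun w => ⟨(g : MulAut V) (w : V), (g.2 (w : V)).mpr w.2⟩
      invFun := fun w => ⟨(g : MulAut V)⁻¹ (w : V), ((stabSub W).inv_mem g.2 (w : V)).mpr w.2⟩
      left_inv := fun w => Subtype.ext (MulAut.inv_apply_self V g.1 (w : V))
      right_inv := fun w => Subtype.ext (MulAut.apply_inv_self V g.1 (w : V))
      map_mul' := fun v w => Subtype.ext (map_mul g.1 (v : V) (w : V)) }
  map_one' := rfl
  map_mul' _ _ := rfl

theorem restrictAut_apply (W : Subgroup V) (g : stabSub W) (w : W) :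
    ((restrictAut W g w : W) : V) = (g : MulAut V) (w : V) := rfl

theorem mem_map_iff {E : Subgroup V} {g : MulAut V} {v : V} :
    v ∈ E.map g.toMonoidHom ↔ g⁻¹ v ∈ E :=
  Subgroup.mem_map_equiv (f := g) (K := E) (x := v)

theorem map_mul_eq (E : Subgroup V) (g h : MulAut V) :
    E.map (g * h).toMonoidHom = (E.map h.toMonoidHom).map g.toMonoidHom := by
  rw [Subgroup.map_map]; rfl

theorem map_one_eq (E : Subgroup V) : E.map (1 : MulAut V).toMonoidHom = E := Subgroup.map_id E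

namespace ClassData

variable {β : V →* V →* Z} {E : Subgroup V} {A O : Subgroup (MulAut V)} {R : Subgroup (MulAut Z)}
  (D : ClassData β E A O R)
include D

theorem cross_of_ne {g h : MulAut V} (hg : g ∈ O) (hh : h ∈ O)
    (hne : E.map g.toMonoidHom ≠ E.map h.toMonoidHom) : Cross β (E.map g.toMonoidHom) (E.map h.toMonoidHom) := by
  rintro _ ⟨c, hc, rfl⟩ hc1 _ ⟨d, hd, rfl⟩ hd1
  have hd1' : d ≠ 1 := fun e => hd1 (by simp [e])
  have hc1' : c ≠ 1 := fun e => hc1 (by simp [e])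
  have hgh : E.map (g⁻¹ * h).toMonoidHom ≠ E := fun e => hne (by
    have := congrArg (fun C : Subgroup V => C.map g.toMonoidHom) e
    simp only [← map_mul_eq, mul_inv_cancel_left] at this
    exact this.symm)
  have h1 := D.cross _ (mul_mem (inv_mem hg) hh) hgh c hc hc1' ((g⁻¹ * h) d) (mem_map_of_mem _ hd)
    (fun e => hd1' ((g⁻¹ * h).injective (e.trans (map_one (g⁻¹ * h)).symm)))
  show β (g c) (h d) ≠ 1
  rwa [show h d = g ((g⁻¹ * h) d) by rw [MulAut.mul_apply, MulAut.apply_inv_self], D.isometry g hg]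

omit D in
theorem map_ne_bot {g : MulAut V} (hE : E ≠ ⊥) : E.map g.toMonoidHom ≠ ⊥ := fun e =>
  hE ((Subgroup.map_eq_bot_iff_of_injective _ g.injective).mp e)

/-- An element acting on a class as a stabiliser element acts on `E` is scalar there. -/
theorem scalarOn_map {g u x : MulAut V} (hg : g ∈ O) {r : MulAut Z} (hu : ScalarOn β u E r)
    (hx : ∀ e ∈ E, x (g e) = g (u e)) : ScalarOn β x (E.map g.toMonoidHom) r := by
  rintro _ ⟨e, he, rfl⟩
  refine ⟨?_, fun v => ?_⟩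
  · show x (g e) ∈ _
    rw [hx e he]
    exact mem_map_of_mem _ (hu e he).1
  · show β (x (g e)) v = r (β (g e) v)
    obtain ⟨w, rfl⟩ : ∃ w, g w = v := ⟨g⁻¹ v, MulAut.apply_inv_self V g v⟩
    rw [hx e he, D.isometry g hg, D.isometry g hg, (hu e he).2]

/-- An element scalar on three classes, isometric or trivial on `E`, fixes them pointwise. -/
theorem fix_three [Finite Z] {h : MulAut V} (hh : h ∈ O) (hE : E.map h.toMonoidHom ≠ E) {x : MulAut V}
    {ρ : MulAut Z} (hρ : ρ ∈ R) (hmul : ∀ v w, β (x v) (x w) = ρ (β v w))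
    {u₀ u₁ u₂ : MulAut V} (m₀ : u₀ ∈ O) (m₁ : u₁ ∈ O) (m₂ : u₂ ∈ O)
    (t₀ : E.map u₀.toMonoidHom = E) (t₁ : E.map u₁.toMonoidHom = E) (t₂ : E.map u₂.toMonoidHom = E)
    (x₀ : ∀ e ∈ E, x e = u₀ e) (x₁ : ∀ e ∈ E, x (h e) = h (u₁ e))
    (x₂ : ∀ e ∈ E, x ((h * h) e) = (h * h) (u₂ e))
    (htriv : ρ = 1 ∨ ∀ e ∈ E, x e = e) :
    ρ = 1 ∧ (∀ e ∈ E, x e = e) ∧ ∀ e ∈ E, x (h e) = h e := by
  obtain ⟨r₀, hr₀, q₀⟩ := D.scalar u₀ m₀ t₀
  obtain ⟨r₁, hr₁, q₁⟩ := D.scalar u₁ m₁ t₁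
  obtain ⟨r₂, hr₂, q₂⟩ := D.scalar u₂ m₂ t₂
  have hh2 : h * h ∈ O := mul_mem hh hh
  have hE2 : E.map (h * h).toMonoidHom ≠ E := by
    intro e
    refine hE ?_
    obtain ⟨k, hk⟩ : Odd (orderOf h) := by
      rw [← Subgroup.orderOf_mk h hh]; exact D.odd_O.of_dvd_nat (orderOf_dvd_natCard _)
    have hpow : ∀ j : ℕ, E.map ((h * h) ^ j).toMonoidHom = E := by
      intro j
      induction j with
      | zero => rw [pow_zero, map_one_eq]
      | succ j ih => rw [pow_succ, map_mul_eq, e, ih]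
    have h2 : (h * h) ^ (k + 1) = h := by
      rw [← pow_two, ← pow_mul, show 2 * (k + 1) = orderOf h + 1 by omega, pow_succ, pow_orderOf_eq_one, one_mul]
    have := hpow (k + 1)
    rwa [h2] at this
  have hE12 : E.map h.toMonoidHom ≠ E.map (h * h).toMonoidHom := fun e => hE (by
    have := congrArg (fun C : Subgroup V => C.map h⁻¹.toMonoidHom) e
    simp only [← map_mul_eq, inv_mul_cancel, inv_mul_cancel_left, map_one_eq] at this
    exact this.symm)
  have c01 := D.cross h hh hE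
  have c02 := D.cross _ hh2 hE2
  have c12 := D.cross_of_ne hh hh2 hE12
  have s₀ : ScalarOn β x E r₀ := fun e he => by rw [x₀ e he]; exact q₀ e he
  have key : ρ = 1 ∨ r₀ = 1 := by
    refine htriv.imp_right fun hx => ?_
    obtain ⟨e, he, he1⟩ := E.bot_or_exists_ne_one.resolve_left D.ne_bot
    obtain ⟨d, hd, hd1⟩ := (E.map h.toMonoidHom).bot_or_exists_ne_one.resolve_left (map_ne_bot D.ne_bot)
    refine D.fpf r₀ hr₀ _ (c01 e he he1 d hd hd1) ?_
    rw [← (s₀ e he).2 d, hx e he]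
  obtain ⟨hρ1, e₀, e₁, -⟩ := eq_one_of_three D.sym D.fpf D.odd_R hρ hr₀ hr₁ hr₂ hmul s₀
    (D.scalarOn_map hh q₁ x₁) (D.scalarOn_map hh2 q₂ x₂) c01 c02 c12
    D.ne_bot (map_ne_bot D.ne_bot) (map_ne_bot D.ne_bot) key
  have fixC : ∀ {C C' : Subgroup V}, ScalarOn β x C 1 → Cross β C C' → C' ≠ ⊥ → ∀ c ∈ C, x c = c := by
    intro C C' hs hc hne c hcC
    obtain ⟨d, hd, hd1⟩ := C'.bot_or_exists_ne_one.resolve_left hne
    by_contra hne'
    refine hc (x c * c⁻¹) (mul_mem (hs c hcC).1 (inv_mem hcC)) (fun e => hne' (mul_inv_eq_one.mp e)) d hd hd1 ?_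
    rw [map_mul, map_inv, MonoidHom.mul_apply, MonoidHom.inv_apply, (hs c hcC).2, MulAut.one_apply, mul_inv_cancel]
  refine ⟨hρ1, fixC (e₀ ▸ s₀) c01 (map_ne_bot D.ne_bot), fun e he => ?_⟩
  exact fixC (e₁ ▸ D.scalarOn_map hh q₁ x₁) c12 (map_ne_bot D.ne_bot) _ (mem_map_of_mem _ he)

/-- **The module count**: if `V` is small, no solvable group of isometries moves `E`. -/
theorem map_eq_of_small [Finite V] [Finite Z] [Group.IsSolvable O] (hexp : ∀ v : V, v * v = 1)
    [IsCyclic A] (hA : Odd (Nat.card A)) (hsmall : Nat.card V < Nat.card E ^ Nat.card A) :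
    ∀ g ∈ O, E.map g.toMonoidHom = E := by
  classical
  intro g₀ hg₀
  by_contra hg₀E
  haveI : Fact (Nat.Prime 2) := ⟨Nat.prime_two⟩
  obtain ⟨O₀, ⟨hO₀, hinv, h₀, hh₀, hh₀E⟩, hmin⟩ := (Set.toFinite {P : Subgroup (MulAut V) | P ≤ O ∧
    (∀ a ∈ A, ∀ g ∈ P, a * g * a⁻¹ ∈ P) ∧ ∃ g ∈ P, E.map g.toMonoidHom ≠ E}).exists_minimal
    ⟨O, le_rfl, D.normalizes, g₀, hg₀, hg₀E⟩
  have hleast : ∀ P ≤ O₀, (∀ a ∈ A, ∀ g ∈ P, a * g * a⁻¹ ∈ P) →
      (∃ g ∈ P, E.map g.toMonoidHom ≠ E) → P = O₀ := fun P hP h1 h2 =>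
    le_antisymm hP (hmin ⟨hP.trans hO₀, h1, h2⟩ hP)
  -- the derived group stabilises `E`
  set C := ⁅O₀, O₀⁆ with hCdef
  have hCle : C ≤ O₀ := commutator_le.mpr fun g hg k hk => by
    rw [commutatorElement_def]
    exact mul_mem (mul_mem (mul_mem hg hk) (inv_mem hg)) (inv_mem hk)
  haveI : Group.IsSolvable O₀ := Group.isSolvable_of_isSolvable_injective (Subgroup.inclusion_injective hO₀)
  have hCne : C ≠ O₀ := by
    intro e
    haveI : Nontrivial O₀ := ⟨⟨⟨h₀, hh₀⟩, 1, fun e' => hh₀E (by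
      rw [show h₀ = 1 from congrArg Subtype.val e', map_one_eq])⟩⟩
    refine (Group.IsSolvable.commutator_lt_top_of_nontrivial O₀).ne ?_
    refine Subgroup.map_injective O₀.subtype_injective ?_
    rw [← MonoidHom.range_eq_map, Subgroup.range_subtype, Subgroup.map_subtype_commutator]
    exact e
  have hstab : ∀ g ∈ C, E.map g.toMonoidHom = E := by
    intro g hg
    by_contra hne
    refine hCne (hleast C hCle (fun a ha k hk => ?_) ⟨g, hg, hne⟩)
    have h1 : C.map (MulAut.conj a).toMonoidHom ≤ C := by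
      rw [hCdef, Subgroup.map_commutator]
      refine commutator_mono ?_ ?_ <;>
      · rintro _ ⟨y, hy, rfl⟩
        exact hinv a ha y hy
    exact h1 (mem_map_of_mem _ hk)
  have hinE : ∀ g : MulAut V, E.map g.toMonoidHom = E → E.map g⁻¹.toMonoidHom = E := fun g hg => by
    conv_lhs => rw [← hg]
    rw [← map_mul_eq, inv_mul_cancel, map_one_eq]
  -- elements stabilising `E` are trivial on all the classes
  have hnorm : ∀ u ∈ O₀, E.map u.toMonoidHom = E → ∀ k ∈ O₀, E.map (k⁻¹ * u * k).toMonoidHom = E := by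
    intro u hu huE k hk
    rw [show k⁻¹ * u * k = ⁅k⁻¹, u⁆ * u by rw [commutatorElement_def]; group, map_mul_eq, huE]
    exact hstab _ (commutator_mem_commutator (inv_mem hk) hu)
  have htriv : ∀ u ∈ O₀, E.map u.toMonoidHom = E → ∀ k ∈ O₀, ∀ e ∈ E, u (k e) = k e := by
    intro u hu huE
    have hconj : ∀ k ∈ O₀, ∀ e, u (k e) = k ((k⁻¹ * u * k) e) := fun k _ e => by
      simp only [MulAut.mul_apply, MulAut.apply_inv_self]
    have main : ∀ h ∈ O₀, E.map h.toMonoidHom ≠ E → (∀ e ∈ E, u e = e) ∧ ∀ e ∈ E, u (h e) = h e := by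
      intro h hh hE
      have := D.fix_three (x := u) (ρ := 1) (hO₀ hh) hE (one_mem R)
        (fun v w => D.isometry u (hO₀ hu) v w) (hO₀ hu)
        (hO₀ (mul_mem (mul_mem (inv_mem hh) hu) hh))
        (hO₀ (mul_mem (mul_mem (inv_mem (mul_mem hh hh)) hu) (mul_mem hh hh))) huE (hnorm u hu huE h hh)
        (hnorm u hu huE _ (mul_mem hh hh)) (fun e _ => rfl) (fun e _ => hconj h hh e)
        (fun e _ => hconj _ (mul_mem hh hh) e) (Or.inl rfl)
      exact this.2
    intro k hk e he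
    by_cases hkE : E.map k.toMonoidHom = E
    · exact (main h₀ hh₀ hh₀E).1 _ (hkE ▸ mem_map_of_mem _ he)
    · exact (main k hk hkE).2 e he
  -- no non-trivial element of `A` commutes with an element moving `E` modulo the stabiliser
  have hfree : ∀ a ∈ A, a ≠ 1 → ∀ k ∈ O₀, E.map (k⁻¹ * a * k * a⁻¹).toMonoidHom = E →
      E.map k.toMonoidHom = E := by
    intro a ha ha1 k hk hka
    by_contra hkE
    let B : Subgroup (MulAut V) :=
      { carrier := {g | g ∈ O₀ ∧ E.map (g⁻¹ * a * g * a⁻¹).toMonoidHom = E}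
        one_mem' := ⟨one_mem _, by rw [inv_one, one_mul, mul_one, mul_inv_cancel, map_one_eq]⟩
        mul_mem' := by
          rintro g l ⟨hg, eg⟩ ⟨hl, el⟩
          refine ⟨mul_mem hg hl, ?_⟩
          rw [show (g * l)⁻¹ * a * (g * l) * a⁻¹ = l⁻¹ * (g⁻¹ * a * g * a⁻¹) * l * (l⁻¹ * a * l * a⁻¹) by group,
            map_mul_eq, el]
          refine hnorm _ ?_ eg l hl
          rw [show g⁻¹ * a * g * a⁻¹ = g⁻¹ * (a * g * a⁻¹) by group]
          exact mul_mem (inv_mem hg) (hinv a ha g hg)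
        inv_mem' := by
          rintro g ⟨hg, eg⟩
          refine ⟨inv_mem hg, ?_⟩
          have h1 := hnorm _ ?_ (hinE _ eg) g⁻¹ (inv_mem hg)
          · rwa [show g⁻¹⁻¹ * (g⁻¹ * a * g * a⁻¹)⁻¹ * g⁻¹ = g⁻¹⁻¹ * a * g⁻¹ * a⁻¹ by group] at h1
          · rw [show g⁻¹ * a * g * a⁻¹ = g⁻¹ * (a * g * a⁻¹) by group]
            exact inv_mem (mul_mem (inv_mem hg) (hinv a ha g hg)) }
    have hmapa : ∀ b ∈ A, E.map b.toMonoidHom = E := fun b hb => by
      ext v
      rw [mem_map_iff]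
      exact ⟨fun h => by have := D.centralizes b hb _ h; rw [MulAut.apply_inv_self] at this; rwa [← this] at h, fun h => by
        rwa [D.centralizes b⁻¹ (inv_mem hb) v h]⟩
    have hB : B = O₀ := hleast B (fun g hg => hg.1) (fun b hb g hg => ⟨hinv b hb g hg.1, by
      obtain ⟨n, hn⟩ := IsCyclic.exists_generator (α := A)
      obtain ⟨i, hi⟩ := hn ⟨a, ha⟩
      obtain ⟨j, hj⟩ := hn ⟨b, hb⟩
      have hab : a * b = b * a := by
        have hi' : a = (n : MulAut V) ^ i := (congrArg Subtype.val hi).symm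
        have hj' : b = (n : MulAut V) ^ j := (congrArg Subtype.val hj).symm
        rw [hi', hj', ← zpow_add, ← zpow_add, add_comm]
      have hab' : a * b⁻¹ = b⁻¹ * a := by rw [eq_inv_mul_iff_mul_eq, ← mul_assoc, ← hab, mul_inv_cancel_right]
      rw [show (b * g * b⁻¹)⁻¹ * a * (b * g * b⁻¹) * a⁻¹ = b * (g⁻¹ * a * g * a⁻¹) * b⁻¹ by
        calc (b * g * b⁻¹)⁻¹ * a * (b * g * b⁻¹) * a⁻¹
            = b * g⁻¹ * b⁻¹ * (a * b) * g * b⁻¹ * a⁻¹ := by group
          _ = b * g⁻¹ * a * g * (b⁻¹ * a⁻¹) := by rw [hab]; group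
          _ = b * g⁻¹ * a * g * (a * b)⁻¹ := by group
          _ = _ := by rw [hab]; group,
        map_mul_eq, map_mul_eq, hmapa _ (inv_mem hb), hg.2, hmapa b hb]⟩) ⟨k, ⟨hk, hka⟩, hkE⟩
    obtain ⟨ρ, hρ, hmul⟩ := D.torus a ha
    have hu : ∀ g ∈ O₀, g⁻¹ * a * g * a⁻¹ ∈ O₀ ∧ E.map (g⁻¹ * a * g * a⁻¹).toMonoidHom = E := fun g hg => by
      refine ⟨?_, ((hB.symm ▸ hg : g ∈ B)).2⟩
      rw [show g⁻¹ * a * g * a⁻¹ = g⁻¹ * (a * g * a⁻¹) by group]
      exact mul_mem (inv_mem hg) (hinv a ha g hg)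
    have hage : ∀ g ∈ O₀, ∀ e ∈ E, a (g e) = g ((g⁻¹ * a * g * a⁻¹) e) := fun g _ e he => by
      simp only [MulAut.mul_apply, MulAut.apply_inv_self, D.centralizes _ (inv_mem ha) e he]
    have main : ∀ h ∈ O₀, E.map h.toMonoidHom ≠ E → ρ = 1 ∧ ∀ e ∈ E, a (h e) = h e := by
      intro h hh hE
      have := D.fix_three (x := a) (hO₀ hh) hE hρ hmul (one_mem O) (hO₀ (hu h hh).1)
        (hO₀ (hu _ (mul_mem hh hh)).1) (map_one_eq E) (hu h hh).2 (hu _ (mul_mem hh hh)).2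
        (fun e he => D.centralizes a ha e he) (hage h hh) (hage _ (mul_mem hh hh))
        (Or.inr (D.centralizes a ha))
      exact ⟨this.1, this.2.2⟩
    refine hh₀E (D.split a ha ha1 (fun v w => by rw [hmul, (main h₀ hh₀ hh₀E).1, MulAut.one_apply]) O₀ hO₀
      (fun g hg e he => ?_) h₀ hh₀)
    by_cases hgE : E.map g.toMonoidHom = E
    · exact D.centralizes a ha _ (hgE ▸ mem_map_of_mem _ he)
    · exact (main g hg hgE).2 e he
  -- the span of the classes, and the part without fixed points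
  set Y : Subgroup V := ⨆ k : O₀, E.map (k : MulAut V).toMonoidHom with hY
  letI := Fintype.ofFinite O₀
  let P : V →* V :=
    { toFun := fun v => ∏ k : O₀, (k : MulAut V) v
      map_one' := by simp
      map_mul' := fun v w => by simp [Finset.prod_mul_distrib] }
  have hP : ∀ v, P v = ∏ k : O₀, (k : MulAut V) v := fun v => rfl
  have hEY : ∀ k ∈ O₀, ∀ e ∈ E, k e ∈ Y := fun k hk e he =>
    le_iSup (fun k : O₀ => E.map (k : MulAut V).toMonoidHom) ⟨k, hk⟩ (mem_map_of_mem _ he)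
  have hYind : ∀ f : V →* V, (∀ k ∈ O₀, ∀ e ∈ E, f (k e) ∈ Y) → ∀ y ∈ Y, f y ∈ Y := fun f hf y hy =>
    (iSup_le fun k : O₀ => show E.map (k : MulAut V).toMonoidHom ≤ Y.comap f by
      rintro _ ⟨e, he, rfl⟩; exact hf k k.2 e he) hy
  have hOY : ∀ g ∈ O₀, ∀ y ∈ Y, g y ∈ Y := fun g hg =>
    hYind g.toMonoidHom fun k hk e he => hEY (g * k) (mul_mem hg hk) e he
  have hAY : ∀ a ∈ A, ∀ y ∈ Y, a y ∈ Y := fun a ha =>
    hYind a.toMonoidHom fun k hk e he => by
      have := hEY _ (hinv a ha k hk) e he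
      rwa [MulAut.mul_apply, MulAut.mul_apply, D.centralizes _ (inv_mem ha) e he] at this
  have hgP : ∀ g ∈ O₀, ∀ v, g (P v) = P v := fun g hg v => by
    rw [hP, map_prod]
    exact Fintype.prod_equiv (Equiv.mulLeft (⟨g, hg⟩ : O₀)) _ _ fun k => rfl
  have hPg : ∀ g ∈ O₀, ∀ v, P (g v) = P v := fun g hg v => by
    rw [hP, hP]
    exact Fintype.prod_equiv (Equiv.mulRight (⟨g, hg⟩ : O₀)) _ _ fun k => rfl
  have hPfix : ∀ v, (∀ g ∈ O₀, g v = v) → P v = v := fun v hv => by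
    rw [hP, Finset.prod_congr rfl (fun (k : O₀) _ => hv (k : MulAut V) k.2), Finset.prod_const, Finset.card_univ,
      ← Nat.card_eq_fintype_card]
    obtain ⟨c, hc⟩ : Odd (Nat.card O₀) := D.odd_O.of_dvd_nat (card_dvd_of_le hO₀)
    rw [hc, pow_succ, pow_mul, pow_two, hexp, one_pow, one_mul]
  have hPPv : ∀ v, P (P v) = P v := fun v => hPfix _ fun g hg => hgP g hg v
  have hPa : ∀ a ∈ A, ∀ v, P (a v) = a (P v) := fun a ha v => by
    rw [hP, hP, map_prod]
    let e : O₀ ≃ O₀ :=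
      { toFun := fun k => ⟨a⁻¹ * k * a, by simpa using hinv a⁻¹ (inv_mem ha) k k.2⟩
        invFun := fun k => ⟨a * k * a⁻¹, hinv a ha k k.2⟩
        left_inv := fun k => Subtype.ext (by simp [mul_assoc])
        right_inv := fun k => Subtype.ext (by simp [mul_assoc]) }
    refine Fintype.prod_equiv e _ _ fun k => ?_
    show (k : MulAut V) (a v) = a ((a⁻¹ * k * a) v)
    simp only [MulAut.mul_apply, MulAut.apply_inv_self]
  set W : Subgroup V := Y ⊓ P.ker with hW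
  have hWmem : ∀ g : MulAut V, (∀ y ∈ Y, g y ∈ Y) → (∀ y ∈ Y, g⁻¹ y ∈ Y) → (∀ v, P v = 1 → P (g v) = 1) →
      (∀ v, P v = 1 → P (g⁻¹ v) = 1) → g ∈ stabSub W := fun g h1 h2 h3 h4 w =>
    ⟨fun hw => by
      have h0 : g⁻¹ (g w) ∈ W := ⟨h2 _ hw.1, h4 _ hw.2⟩
      rwa [MulAut.inv_apply_self] at h0,
      fun hw => ⟨h1 _ hw.1, h3 _ hw.2⟩⟩
  have hOW : O₀ ≤ stabSub W := fun g hg => hWmem g (hOY g hg) (hOY _ (inv_mem hg))
    (fun v hv => by rw [hPg g hg, hv]) (fun v hv => by rw [hPg _ (inv_mem hg), hv])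
  have hAW : A ≤ stabSub W := fun a ha => hWmem a (hAY a ha) (hAY _ (inv_mem ha))
    (fun v hv => by rw [hPa a ha, hv, map_one]) (fun v hv => by rw [hPa _ (inv_mem ha), hv, map_one])
  have hPY : ∀ y ∈ Y, P y ∈ Y := fun y hy => by
    rw [hP]; exact prod_mem fun k _ => hOY k k.2 y hy
  have hEW : ∀ e ∈ E, e * P e ∈ W := fun e he =>
    ⟨mul_mem (by simpa using hEY 1 (one_mem _) e he) (hPY e (by simpa using hEY 1 (one_mem _) e he)), by
      show P (e * P e) = 1
      rw [map_mul, hPPv, hexp]⟩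
  have hYfix : ∀ g ∈ O₀, (∀ w ∈ W, g w = w) → ∀ y ∈ Y, g y = y := fun g hg hw y hy => by
    have h1 := hw (y * P y) ⟨mul_mem hy (hPY y hy), show P (y * P y) = 1 by rw [map_mul, hPPv, hexp]⟩
    rw [map_mul, hgP g hg] at h1
    exact mul_right_cancel h1
  -- the automorphisms induced on it
  let ψ : O₀ →* MulAut W := (restrictAut W).comp (Subgroup.inclusion hOW)
  have hψ : ∀ (g : O₀) (w : W), ((ψ g w : W) : V) = (g : MulAut V) w := fun g w => rfl
  have hker : ∀ g : O₀, ψ g = 1 ↔ E.map (g : MulAut V).toMonoidHom = E := by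
    intro g
    constructor
    · intro hg
      have hfix : ∀ y ∈ Y, (g : MulAut V) y = y := hYfix g g.2 fun w hw => by
        rw [← hψ g ⟨w, hw⟩, hg, MulAut.one_apply]
      ext v
      have h1 : ∀ e ∈ E, (g : MulAut V) e = e := fun e he =>
        hfix e (by simpa using hEY 1 (one_mem _) e he)
      rw [mem_map_iff]
      refine ⟨fun h => ?_, fun h => ?_⟩
      · rwa [show (g : MulAut V)⁻¹ v = v by
          conv_rhs => rw [← MulAut.apply_inv_self V (g : MulAut V) v, h1 _ h]] at h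
      · rwa [show (g : MulAut V)⁻¹ v = v by
          conv_lhs => rw [← h1 v h, MulAut.inv_apply_self]]
    · intro hg
      have hfix : ∀ y ∈ Y, (g : MulAut V) y = y := fun y hy =>
        (iSup_le fun k : O₀ => show E.map (k : MulAut V).toMonoidHom ≤
            MonoidHom.eqLocus (g : MulAut V).toMonoidHom (MonoidHom.id V) by
          rintro _ ⟨e, he, rfl⟩; exact htriv g g.2 hg k k.2 e he) hy
      exact MulEquiv.ext fun w => Subtype.ext ((hψ g w).trans (hfix w w.2.1))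
  obtain ⟨α, hα⟩ := IsCyclic.exists_generator (α := A)
  let b : MulAut W := restrictAut W ⟨α, hAW α.2⟩
  have hconjψ : ∀ (i : ℕ) (g : O₀), b ^ i * ψ g * (b ^ i)⁻¹ =
      ψ ⟨(α : MulAut V) ^ i * g * ((α : MulAut V) ^ i)⁻¹, hinv _ (pow_mem α.2 i) g g.2⟩ := fun i g => by
    show restrictAut W _ ^ i * restrictAut W _ * (restrictAut W _ ^ i)⁻¹ = restrictAut W _
    rw [← map_pow, ← map_inv, ← map_mul, ← map_mul]
    rfl
  set n := Nat.card A with hn
  have hαn : orderOf α = n := orderOf_eq_card_of_forall_mem_zpowers hα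
  have hXb : ∀ i, 0 < i → i < n → ∀ x ∈ ψ.range, b ^ i * x = x * b ^ i → x = 1 := by
    rintro i hi hin _ ⟨g, rfl⟩ hc
    rw [hker]
    have ha1 : (α : MulAut V) ^ i ≠ 1 := fun e => by
      have := orderOf_dvd_of_pow_eq_one e
      rw [Subgroup.orderOf_coe, hαn] at this
      exact absurd (Nat.le_of_dvd hi this) (by omega)
    refine hfree _ (pow_mem α.2 i) ha1 g g.2 ?_
    have h1 : ψ (g⁻¹ * ⟨(α : MulAut V) ^ i * g * ((α : MulAut V) ^ i)⁻¹, hinv _ (pow_mem α.2 i) g g.2⟩) = 1 := by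
      rw [map_mul, map_inv, ← hconjψ, hc, mul_inv_cancel_right, inv_mul_cancel]
    rw [hker] at h1
    rwa [show (g : MulAut V)⁻¹ * (α : MulAut V) ^ i * g * ((α : MulAut V) ^ i)⁻¹ =
      (g : MulAut V)⁻¹ * ((α : MulAut V) ^ i * g * ((α : MulAut V) ^ i)⁻¹) by group]
  have hXcomm : ∀ x ∈ ψ.range, ∀ y ∈ ψ.range, x * y = y * x := by
    rintro _ ⟨g, rfl⟩ _ ⟨k, rfl⟩
    rw [← commutatorElement_eq_one_iff_mul_comm, ← map_commutatorElement, hker]
    exact hstab _ (commutator_mem_commutator g.2 k.2)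
  have hnormX : ∀ x ∈ ψ.range, b * x * b⁻¹ ∈ ψ.range := by
    rintro _ ⟨g, rfl⟩
    exact ⟨_, (by simpa using hconjψ 1 g : b * ψ g * b⁻¹ = _).symm⟩
  have hXodd : Odd (Nat.card ψ.range) :=
    (D.odd_O.of_dvd_nat (card_dvd_of_le hO₀)).of_dvd_nat (card_range_dvd ψ)
  have hbn : b ^ n = 1 := by
    show restrictAut W _ ^ n = 1
    rw [← map_pow, ← hαn]
    convert map_one (restrictAut W)
    exact Subtype.ext (show (α : MulAut V) ^ orderOf α = 1 by rw [← Subgroup.coe_pow, pow_orderOf_eq_one, Subgroup.coe_one])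
  have hcop : n.Coprime (Nat.card ψ.range) := by
    by_contra hco
    obtain ⟨l, hl, hln, hlX⟩ := Nat.Prime.not_coprime_iff_dvd.mp hco
    haveI : Fact l.Prime := ⟨hl⟩
    -- the element of order `l` fixes an element of order `l`
    obtain ⟨i, hin⟩ := hln
    have hi : 0 < i := Nat.pos_of_ne_zero fun e => by
      rw [e, mul_zero] at hin; exact Nat.card_pos.ne' (hn ▸ hin)
    have hlt : i < n := by rw [hin]; exact lt_mul_of_one_lt_left hi hl.one_lt
    letI : CommGroup ψ.range :=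
      { (inferInstance : Group ψ.range) with mul_comm := fun a c => Subtype.ext (hXcomm a a.2 c c.2) }
    let T := {x : MulAut W | x ∈ ψ.range ∧ x ^ l = 1}
    have hnb : ∀ x ∈ T, ∀ j : ℕ, b ^ j * x * (b ^ j)⁻¹ ∈ T := by
      rintro x ⟨⟨g, rfl⟩, hx⟩ j
      exact ⟨⟨_, (hconjψ j g).symm⟩, by rw [conj_pow, hx, mul_one, mul_inv_cancel]⟩
    let c : T → T := fun x => ⟨b ^ i * x.1 * (b ^ i)⁻¹, hnb x.1 x.2 i⟩
    haveI : Fintype T := Fintype.ofFinite T
    let f : Function.End T := c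
    have hiter : ∀ (j : ℕ) (x : T), ((f ^ j) x).1 = b ^ (i * j) * x.1 * (b ^ (i * j))⁻¹ := by
      intro j
      induction j with
      | zero => intro x; simp; rfl
      | succ j ih =>
        intro x
        rw [pow_succ]
        show ((f ^ j) (c x)).1 = _
        rw [ih, mul_add, mul_one, pow_add]
        simp [c, mul_assoc]
    have hfl : f ^ l ^ 1 = 1 := by
      funext x
      refine Subtype.ext ?_
      rw [pow_one, hiter, show i * l = n by rw [hin, mul_comm], hbn]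
      simp
      rfl
    have hmod := Equiv.Perm.card_fixedPoints_modEq (p := l) hfl
    let Tg : Subgroup (MulAut W) :=
      { carrier := T
        one_mem' := ⟨one_mem _, one_pow l⟩
        mul_mem' := fun {x y} hx hy => ⟨mul_mem hx.1 hy.1, by
          rw [Commute.mul_pow (hXcomm x hx.1 y hy.1), hx.2, hy.2, one_mul]⟩
        inv_mem' := fun {x} hx => ⟨inv_mem hx.1, by rw [inv_pow, hx.2, inv_one]⟩ }
    obtain ⟨x₀, hx₀⟩ := exists_prime_orderOf_dvd_card' l hlX
    have hx₀T : (x₀ : MulAut W) ∈ Tg := ⟨x₀.2, by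
      rw [← Subgroup.coe_pow, ← hx₀, pow_orderOf_eq_one, Subgroup.coe_one]⟩
    have hdiv : l ∣ Fintype.card T := by
      rw [← Nat.card_eq_fintype_card]
      show l ∣ Nat.card Tg
      rw [← hx₀, ← Subgroup.orderOf_coe, ← Subgroup.orderOf_mk _ hx₀T]
      exact orderOf_dvd_natCard _
    have hdiv2 : l ∣ Fintype.card (Function.fixedPoints f) :=
      Nat.modEq_zero_iff_dvd.mp (hmod.symm.trans (Nat.modEq_zero_iff_dvd.mpr hdiv))
    have h1mem : (⟨1, Tg.one_mem⟩ : T) ∈ Function.fixedPoints f :=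
      Subtype.ext (show b ^ i * 1 * (b ^ i)⁻¹ = 1 by simp)
    obtain ⟨⟨y, hy⟩, hy1⟩ := Fintype.exists_ne_of_one_lt_card (lt_of_lt_of_le hl.one_lt
      (Nat.le_of_dvd (Fintype.card_pos_iff.mpr ⟨⟨_, h1mem⟩⟩) hdiv2)) ⟨_, h1mem⟩
    refine hy1 (Subtype.ext (Subtype.ext ?_))
    refine hXb i hi hlt _ y.2.1 ?_
    have h2 : b ^ i * y.1 * (b ^ i)⁻¹ = y.1 := congrArg Subtype.val hy
    exact mul_inv_eq_iff_eq_mul.mp h2
  have hexpW : ∀ w : W, w ^ 2 = 1 := fun w => Subtype.ext (by rw [pow_two]; exact hexp w)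
  have hnofix : ∀ w : W, (∀ x ∈ ψ.range, x w = w) → w = 1 := fun w hw => Subtype.ext (by
    rw [Subgroup.coe_one, ← hPfix (w : V) fun g hg => by rw [← hψ ⟨g, hg⟩ w, hw _ ⟨_, rfl⟩]]
    exact w.2.2)
  have hbound := card_fixed_pow_le_of_free (l := 2) (p := n) Nat.card_pos
    (fun h => Nat.not_even_iff_odd.mpr hA (even_iff_two_dvd.mpr h)) hexpW b hbn ψ.range hXcomm hnormX hXb
    (fun h => Nat.not_even_iff_odd.mpr hXodd (even_iff_two_dvd.mpr h)) hcop hnofix
  -- `E` embeds into the fixed points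
  set F := MonoidHom.eqLocus b.toMonoidHom (MonoidHom.id W)
  let j : E → F := fun e => ⟨⟨(e : V) * P e, hEW e e.2⟩, Subtype.ext (by
    show (α : MulAut V) ((e : V) * P e) = (e : V) * P e
    rw [map_mul, D.centralizes _ α.2 e e.2, ← hPa _ α.2, D.centralizes _ α.2 e e.2])⟩
  have hj : Function.Injective j := by
    intro e e' he
    have h1 : (e : V) * P e = (e' : V) * P e' := congrArg (fun x : F => ((x : W) : V)) he
    set d : V := (e : V) * (e' : V)⁻¹ with hd
    have hd1 : d * P d = 1 := by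
      rw [hd, map_mul, map_inv, mul_mul_mul_comm, h1, ← mul_inv, mul_inv_cancel]
    by_contra hne
    have hdne : d ≠ 1 := fun h => hne (Subtype.ext (mul_inv_eq_one.mp h))
    have hdE : d ∈ E := mul_mem e.2 (inv_mem e'.2)
    have hdfix : ∀ g ∈ O₀, g d = d := fun g hg => by
      have : d = P d := (eq_inv_of_mul_eq_one_left hd1).trans (inv_eq_of_mul_eq_one_left (hexp (P d)))
      rw [this, hgP g hg]
    exact D.cross h₀ (hO₀ hh₀) hh₀E d hdE hdne d ⟨d, hdE, hdfix h₀ hh₀⟩ hdne (D.alt d)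
  have hle : Nat.card E ^ n ≤ Nat.card V :=
    (Nat.pow_le_pow_left (Nat.card_le_card_of_injective j hj) n).trans
      (hbound.trans (Subgroup.card_le_card_group W))
  exact absurd hle (not_le.mpr hsmall)

end ClassData

end Cfsg.Agent.H3.Asch.RankModule
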