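import Cfsg.Agent.H3.Asch.ShapeTwoScalar
import Cfsg.Agent.H26.Asch.GoodInvolution

/-!
No element proper, lines of shape two, CASE II: once an involution among the translations moves `u`, the
translations are elementary abelian modulo `E` and every such involution is a friend of `u`.
-/

set_option autoImplicit false
set_option linter.style.haveILetI false
set_option linter.unusedSectionVars false

namespace Cfsg.Agent.H3.Asch

open Subgroup MulAction
open Cfsg.Agent.H14.Asch
open Cfsg.Agent.H39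
open Cfsg.Agent.H30.Asch

universe u v

variable {G : Type u} [Group G] {Ω : Type v} [MulAction G Ω] {D : Set G} [Finite G] [Finite Ω]

namespace ShapeTwo

variable {u v : G} {x y : Ω} {E Q A : Subgroup G} (S : ShapeTwo D u v x y E Q A) (hc : NPCtx G Ω D)
include S hc

/-- An involution moving `u` has no kernel component in its commutators. -/
theorem ker_part_eq_one {z a k e : G} (hzT : z ∈ moveGroup u E) (hz2 : z * z = 1) (ha : a ∈ E)
    (ha1 : a ≠ 1) (hzu : z * u * z⁻¹ = u * a) (hk : k ∈ lineKer Ω u) (he : e ∈ E)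
    (h : z * (e * k) * (z * (e * k)) = 1) : k = 1 := by
  by_contra hk1
  obtain ⟨α, hα, hαs⟩ := S.exists_scalar_ker hc hk hk1
  have h1 := S.conj_ker hc hzT ha hzu hk hk1 hα hαs
  have h2 : z * k * z⁻¹ = k := by
    have h3 : z * (e * k) * z = (e * k)⁻¹ := eq_inv_of_mul_eq_one_left (by rw [← h]; group)
    rw [inv_eq_of_mul_eq_one_right hz2]
    calc z * k * z = z * (e⁻¹ * (e * k)) * z := by group
      _ = e⁻¹ * (z * (e * k) * z) := by
        rw [← mul_assoc z e⁻¹, ((hzT.1 e he).inv_right).eq]; group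
      _ = k := by
        rw [h3, mul_inv_rev, inv_eq_of_mul_eq_one_right (S.ker_mul_self hc hk), S.E_inv hc he,
          ← mul_assoc, (S.ker_commute_E hc hk he).eq, mul_assoc, S.E_sq hc he, mul_one]
  rw [h2, left_eq_mul, conj_eq_one_iff] at h1
  exact ha1 h1

/-- An involution moving `u` commutes with `Q` modulo `E`. -/
theorem conj_Q_of_outside {z a q : G} (hzT : z ∈ moveGroup u E) (hz2 : z * z = 1) (ha : a ∈ E)
    (ha1 : a ≠ 1) (hzu : z * u * z⁻¹ = u * a) (hq : q ∈ Q) : ∃ e ∈ E, z * q * z⁻¹ = e * q := by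
  have hzi : z⁻¹ = z := inv_eq_of_mul_eq_one_right hz2
  set m := z * q * z⁻¹ with hm
  have hmu : Commute m u := by
    apply commute_of_conj_eq
    calc m * u * m⁻¹ = z * (q * (z⁻¹ * u * z⁻¹⁻¹) * q⁻¹) * z⁻¹ := by rw [hm]; group
      _ = z * (q * (z * u * z⁻¹) * q⁻¹) * z⁻¹ := by simp only [hzi]
      _ = z * (z * u * z⁻¹) * z⁻¹ := by
        rw [hzu, conj_eq_of_commute ((line2_commute S.line hq).mul_right (S.line.central a ha q hq).symm)]
      _ = (z * z) * u * (z * z)⁻¹ := by group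
      _ = u := by rw [hz2, one_mul, inv_one, mul_one]
  have hmT : m ∈ moveGroup u E := mul_mem (mul_mem hzT (S.Q_le_move hc hq)) (inv_mem hzT)
  obtain ⟨q₁, hq₁, k₁, hk₁, hmk⟩ := S.mem_cent hc hmT.1 hmu
  have hqq : q₁ * q₁ = q * q := by
    calc q₁ * q₁ = q₁ * k₁ * (q₁ * k₁) := by
          rw [mul_assoc q₁ k₁, ← mul_assoc k₁ q₁, ← (S.ker_commute_Q hc hk₁ hq₁).eq, mul_assoc q₁ k₁,
            S.ker_mul_self hc hk₁, mul_one]
      _ = z * (q * q) * z⁻¹ := by rw [← hmk, hm]; group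
      _ = q * q := conj_eq_of_commute (hzT.1 _ (S.line.sq_mem q hq))
  have he := S.inj _ hq₁ q hq hqq
  set e := q₁ * q⁻¹
  have hm' : m = e * k₁ * q := by
    rw [hmk, show q₁ = e * q by simp [e], mul_assoc, (S.ker_commute_Q hc hk₁ hq).eq, ← mul_assoc]
  suffices hk : k₁ = 1 by exact ⟨e, he, by rw [hm', hk, mul_one]⟩
  refine S.ker_part_eq_one hc hzT hz2 ha ha1 hzu hk₁ he ?_
  have h1 : q * z * q⁻¹ = z * (e * k₁) := by
    calc q * z * q⁻¹ = z * (z * q * z⁻¹) * q⁻¹ := by rw [hzi, ← mul_assoc, ← mul_assoc, hz2, one_mul]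
      _ = z * m * q⁻¹ := rfl
      _ = z * (e * k₁) := by rw [hm']; group
  rw [← h1, show q * z * q⁻¹ * (q * z * q⁻¹) = q * (z * z) * q⁻¹ by group, hz2]
  group

/-- One involution moving `u` gives one over every non-trivial element of `E`. -/
theorem exists_outside (hex : ∃ z ∈ moveGroup u E, z * z = 1 ∧ ¬ Commute z u) {a : G} (ha : a ∈ E)
    (ha1 : a ≠ 1) : ∃ z ∈ moveGroup u E, z * z = 1 ∧ z * u * z⁻¹ = u * a := by
  obtain ⟨z, hzT, hz2, hzu⟩ := hex
  obtain ⟨-, b, hb, hzb⟩ := id hzT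
  have hb1 : b ≠ 1 := fun h => hzu (commute_of_conj_eq (by rw [hzb, h, mul_one]))
  obtain ⟨r, hr, rfl⟩ := S.A_trans b hb a ha hb1 ha1
  obtain ⟨h1, h2⟩ := S.conj_mem_moveGroup hc hr hzT hb hzb
  refine ⟨_, h1, ?_, h2⟩
  rw [show r * z * r⁻¹ * (r * z * r⁻¹) = r * (z * z) * r⁻¹ by group, hz2]
  group

/-- The translations have exponent two modulo `E`. -/
theorem sq_mem_of_outside (hex : ∃ z ∈ moveGroup u E, z * z = 1 ∧ ¬ Commute z u) :
    ∀ t ∈ moveGroup u E, t * t ∈ E := by
  intro t ht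
  obtain ⟨-, a, ha, htu⟩ := id ht
  by_cases ha1 : a = 1
  · rw [ha1, mul_one] at htu
    obtain ⟨q, hq, k, hk, rfl⟩ := S.mem_cent hc ht.1 (commute_of_conj_eq htu)
    rw [mul_assoc q k, ← mul_assoc k q, ← (S.ker_commute_Q hc hk hq).eq, mul_assoc q k,
      S.ker_mul_self hc hk, mul_one]
    exact S.line.sq_mem q hq
  obtain ⟨z, hzT, hz2, hzu⟩ := S.exists_outside hc hex ha ha1
  have hzi : z⁻¹ = z := inv_eq_of_mul_eq_one_right hz2
  have hrest : z * t ∈ moveGroup u E := mul_mem hzT ht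
  have hcomm : Commute (z * t) u := by
    apply commute_of_conj_eq
    calc z * t * u * (z * t)⁻¹ = z * (t * u * t⁻¹) * z⁻¹ := by group
      _ = (z * u * z⁻¹) * (z * a * z⁻¹) := by rw [htu]; group
      _ = u := by rw [hzu, conj_eq_of_commute (hzT.1 a ha), mul_assoc, S.E_sq hc ha, mul_one]
  obtain ⟨q, hq, k, hk, hzt⟩ := S.mem_cent hc hrest.1 hcomm
  obtain ⟨e, he, hzq⟩ := S.conj_Q_of_outside hc hzT hz2 ha ha1 hzu hq
  obtain ⟨b, hb, hzk⟩ : ∃ b ∈ E, z * k * z⁻¹ = k * b := by
    by_cases hk1 : k = 1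
    · exact ⟨1, one_mem E, by rw [hk1]; group⟩
    obtain ⟨α, hα, hαs⟩ := S.exists_scalar_ker hc hk hk1
    exact ⟨_, S.conj_A_E hc hα ha, S.conj_ker hc hzT ha hzu hk hk1 hα hαs⟩
  have ht' : t = z * (q * k) := by rw [← hzt, ← mul_assoc, hz2, one_mul]
  have hEq : ∀ {f : G}, f ∈ E → Commute f (q * k) := fun hf =>
    (S.line.central _ hf q hq).mul_right (S.ker_commute_E hc hk hf)
  have h1 : t * t = e * b * (q * q) := by
    calc t * t = (z * q * z⁻¹) * (z * k * z⁻¹) * (z * z) * (q * k) := by rw [ht']; group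
      _ = e * (q * k) * b * (q * k) := by rw [hzq, hzk, hz2]; group
      _ = e * b * ((q * k) * (q * k)) := by
        rw [mul_assoc e (q * k) b, ← (hEq hb).eq]; group
      _ = e * b * (q * q) := by
        rw [show q * k * (q * k) = q * (k * q) * k by group, ← (S.ker_commute_Q hc hk hq).eq,
          show q * (q * k) * k = q * q * (k * k) by group, S.ker_mul_self hc hk, mul_one]
  rw [h1]
  exact mul_mem (mul_mem he hb) (S.line.sq_mem q hq)

/-- The translations commute modulo `E`. -/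
theorem comm_mem_of_outside (hex : ∃ z ∈ moveGroup u E, z * z = 1 ∧ ¬ Commute z u) {s t : G}
    (hs : s ∈ moveGroup u E) (ht : t ∈ moveGroup u E) : s * t * s⁻¹ * t⁻¹ ∈ E := by
  have hsq := S.sq_mem_of_outside hc hex
  have h1 := hsq _ (mul_mem hs ht)
  have hs2 := hsq s hs
  have ht2 := hsq t ht
  have e : s * t * s⁻¹ * t⁻¹ = s * t * (s * t) * ((t⁻¹ * (s * s)⁻¹ * t⁻¹⁻¹) * (t * t)⁻¹) := by group
  rw [e, conj_eq_of_commute ((ht.1 _ (inv_mem hs2)).inv_left)]
  exact mul_mem h1 (mul_mem (inv_mem hs2) (inv_mem ht2))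

/-- Every involution among the translations moving `u` is a friend of `u`. -/
theorem friend_of_outside (hmax : MaxKer D u x)
    (hex : ∃ z ∈ moveGroup u E, z * z = 1 ∧ ¬ Commute z u) {z : G} (hzT : z ∈ moveGroup u E)
    (hz2 : z * z = 1) (hzu : ¬ Commute z u) : Friend D u z x E := by
  classical
  set T := moveGroup u E with hT
  have hz1 : z ≠ 1 := fun h => hzu (h ▸ Commute.one_left u)
  have hzo := orderOf_eq_two_of_mul_self hz2 hz1
  have hzx : z • x = x := S.smul_of_centE hc hzT.1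
  have hbad : Bad Ω z := by
    by_contra hb
    exact hzu (S.E_commute_u ((S.mem_E hc).mpr (Or.inr ⟨H26.Asch.mem_of_not_bad hc hzo hb, hzx⟩)))
  obtain ⟨p, p', hpp, hp, hp'⟩ := hbad
  have hrtb := hc.two z hzo p p' hpp hp hp'
  -- the fixed points of `z`
  obtain ⟨hs, hm⟩ := H26.Asch.card_members_at hc S.quad S.line
  have hmz : Nat.card (commSwap D z x x) = Nat.card E - 1 := by
    rw [← hs]
    exact congrArg (fun s : Set G => Nat.card s) (Set.ext fun d => ⟨fun h => ⟨h.1, h.2.2⟩,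
      fun h => ⟨h.1, (hzT.1 d ((S.mem_E hc).mpr (Or.inr h))).symm, h.2⟩⟩)
  have houtz := count_out hc.crit hc.lines hrtb hzx
  have houtu := count_out hc.crit hc.lines S.quad.bu S.quad.hx.1
  rw [hs, hmz] at houtz
  rw [hs, hm, ← H29.Asch.line2_card_Q S.line S.quad.hy.1 S.quad.ne.symm] at houtu
  have hpos : 0 < Nat.card E - 1 := by have := S.eight_le hc; omega
  have hφ : Nat.card (fixedBy Ω z) = Nat.card Q + 1 := by
    rcases lt_trichotomy (Nat.card (fixedBy Ω z)) (Nat.card Q + 1) with h | h | h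
    · exfalso
      have h1 : (Nat.card E - 1) * (Nat.card Ω - (Nat.card Q + 1)) ≤
          (Nat.card E - 1) * (Nat.card Ω - Nat.card (fixedBy Ω z)) :=
        Nat.mul_le_mul_left _ (by omega)
      rw [houtz, houtu] at h1
      have h2 : Nat.card (fixedBy Ω z) * (Nat.card (fixedBy Ω z) - 1) <
          (Nat.card Q + 1) * (Nat.card Q + 1 - 1) :=
        Nat.mul_lt_mul_of_lt_of_le h (by omega) (by have := Nat.card_pos (α := Q); omega)
      exact absurd (Nat.le_of_mul_le_mul_right h1 (by positivity)) (by omega)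
    · exact h
    · exfalso
      have h1 : (Nat.card E - 1) * (Nat.card Ω - Nat.card (fixedBy Ω z)) ≤
          (Nat.card E - 1) * (Nat.card Ω - (Nat.card Q + 1)) :=
        Nat.mul_le_mul_left _ (by omega)
      rw [houtz, houtu] at h1
      have h2 : (Nat.card Q + 1) * (Nat.card Q + 1 - 1) <
          Nat.card (fixedBy Ω z) * (Nat.card (fixedBy Ω z) - 1) :=
        Nat.mul_lt_mul_of_lt_of_le h (by omega) (by have := Nat.card_pos (α := Q); omega)
      exact absurd (Nat.le_of_mul_le_mul_right h1 (by positivity)) (by omega)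
  -- the translations centralising `z`
  set C := T ⊓ centralizer ({z} : Set G) with hC
  have hCmem : ∀ {t}, t ∈ C ↔ t ∈ T ∧ Commute t z := fun {t} => by
    rw [hC, mem_inf, mem_centralizer_singleton_iff]; rfl
  have hconj : ∀ t ∈ T, ∃ b ∈ E, t * z * t⁻¹ = z * b := fun t ht =>
    ⟨_, S.comm_mem_of_outside hc hex ht hzT, by
      rw [(hzT.1 _ (S.comm_mem_of_outside hc hex ht hzT)).eq]; group⟩
  have hCbig : Nat.card T ≤ Nat.card C * Nat.card E := by
    let ψ : T →* E :=
      MonoidHom.mk' (fun t => ⟨z⁻¹ * ((t : G) * z * (t : G)⁻¹), by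
          obtain ⟨b, hb, e⟩ := hconj t t.2
          rwa [e, inv_mul_cancel_left]⟩) fun t t' => Subtype.ext (by
        obtain ⟨b, hb, e⟩ := hconj t t.2
        obtain ⟨b', hb', e'⟩ := hconj t' t'.2
        show z⁻¹ * ((t : G) * t' * z * ((t : G) * t')⁻¹) =
          z⁻¹ * ((t : G) * z * (t : G)⁻¹) * (z⁻¹ * ((t' : G) * z * (t' : G)⁻¹))
        rw [e, e', inv_mul_cancel_left, inv_mul_cancel_left,
          show (t : G) * t' * z * ((t : G) * t')⁻¹ = (t : G) * ((t' : G) * z * (t' : G)⁻¹) * (t : G)⁻¹ by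
            group,
          e', show (t : G) * (z * b') * (t : G)⁻¹ =
            ((t : G) * z * (t : G)⁻¹) * ((t : G) * b' * (t : G)⁻¹) by group,
          e, conj_eq_of_commute (t.2.1 b' hb'), mul_assoc, inv_mul_cancel_left])
    have hker : Nat.card ψ.ker ≤ Nat.card C :=
      Nat.card_le_card_of_injective (fun t => (⟨(t.1 : G), hCmem.mpr ⟨t.1.2,
        commute_of_conj_eq (inv_mul_eq_one.mp (congrArg Subtype.val t.2 :
          z⁻¹ * ((t.1 : G) * z * (t.1 : G)⁻¹) = 1)).symm⟩⟩ : C))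
        fun a b h => Subtype.ext (Subtype.ext (congrArg (fun w : C => (w : G)) h))
    have hran : Nat.card ψ.range ≤ Nat.card E := Subgroup.card_le_card_group _
    rw [← Subgroup.index_mul_card ψ.ker, Subgroup.index_ker, mul_comm (Nat.card C)]
    exact Nat.mul_le_mul hran hker
  obtain ⟨c, hcx, hzc⟩ : ∃ c : Ω, c ≠ x ∧ z • c = c := by
    by_cases h : p = x
    · exact ⟨p', fun e => hpp (h.trans e.symm), hp'⟩
    · exact ⟨p, h, hp⟩
  set H := stabilizer G c ⊓ C with hH
  have hHbig : Nat.card C ≤ Nat.card Q * Nat.card H := by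
    have h1 : Nat.card (orbit C c) ≤ Nat.card Q := by
      have hsub : orbit C c ⊆ fixedBy Ω z \ {x} := by
        rintro _ ⟨t, rfl⟩
        obtain ⟨htT, htz⟩ := hCmem.mp t.2
        refine ⟨smul_fixed_of_commute htz hzc, fun e => hcx ?_⟩
        have e' : (t : G) • c = x := e
        exact MulAction.injective (t : G) (e'.trans (S.smul_of_centE hc htT.1).symm)
      rw [Nat.card_coe_set_eq]
      refine (Set.ncard_le_ncard hsub).trans ?_
      rw [Set.ncard_sdiff (Set.singleton_subset_iff.mpr (show x ∈ fixedBy Ω z from hzx)),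
        Set.ncard_singleton, ← Nat.card_coe_set_eq, hφ]
      omega
    have h2 : Nat.card (orbit C c) * Nat.card H = Nat.card C := by
      rw [Nat.card_congr (orbitEquivQuotientStabilizer C c), ← Subgroup.index_eq_card,
        show Nat.card H = Nat.card (stabilizer C c) from ?_, Subgroup.index_mul_card]
      exact (Nat.card_congr
        { toFun := fun s => ⟨s.1.1, mem_stabilizer_iff.mpr s.2, s.1.2⟩
          invFun := fun s => ⟨⟨s.1, s.2.2⟩, mem_stabilizer_iff.mp s.2.1⟩
          left_inv := fun _ => rfl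
          right_inv := fun _ => rfl }).symm
    rw [← h2]
    exact Nat.mul_le_mul_right _ h1
  have hr : Nat.card (lineKer Ω u) ≤ Nat.card H := by
    refine Nat.le_of_mul_le_mul_left ?_ (Nat.mul_pos (Nat.card_pos (α := E)) (Nat.card_pos (α := Q)))
    calc Nat.card E * Nat.card Q * Nat.card (lineKer Ω u) = Nat.card T := (S.card_moveGroup hc).symm
      _ ≤ Nat.card C * Nat.card E := hCbig
      _ ≤ Nat.card Q * Nat.card H * Nat.card E := Nat.mul_le_mul_right _ hHbig
      _ = _ := by ring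
  have hHc : ∀ {t}, t ∈ H → t • c = c := fun {t} ht => mem_stabilizer_iff.mp ht.1
  have hHT : ∀ {t}, t ∈ H → t ∈ T ∧ Commute t z := fun {t} ht => hCmem.mp ht.2
  obtain ⟨w, hwH, hw1, hwz⟩ : ∃ w, w ∈ H ∧ w ≠ 1 ∧ w ≠ z := by
    by_contra hcon
    push Not at hcon
    have hsub : (H : Set G) ⊆ {1, z} := fun t ht => by
      by_cases ht1 : t = 1
      · exact Or.inl ht1
      · exact Or.inr (hcon t ht ht1)
    have h2 := (Set.ncard_le_ncard hsub).trans (Set.ncard_insert_le _ _)
    rw [Set.ncard_singleton, ← Nat.card_coe_set_eq] at h2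
    have h3 : Nat.card H ≤ 2 := h2
    have := S.four_le_ker hc
    omega
  obtain ⟨hwT, hwz'⟩ := hHT hwH
  have hw2 : w * w = 1 :=
    S.E_fixed hc (S.sq_mem_of_outside hc hex w hwT) hcx (by rw [mul_smul, hHc hwH, hHc hwH])
  have hq : Quad Ω D z w x c := quad_of_pair hc.two hzo (orderOf_eq_two_of_mul_self hw2 hw1)
    hwz'.symm hwz.symm hcx.symm ⟨hzx, S.smul_of_centE hc hwT.1⟩ ⟨hzc, hHc hwH⟩
  obtain ⟨E', Q', A', S'⟩ := exists_shapeTwo hc hq
  have hE := S.E_eq hc S'
  subst hE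
  have hle : H ≤ lineKer Ω z := fun t ht =>
    S'.mem_ker_of_fix hc (hHT ht).1.1 (hHT ht).2 (hHc ht)
  have hcard : Nat.card (lineKer Ω z) = Nat.card (lineKer Ω u) :=
    le_antisymm (hmax z w c hq) (hr.trans (Subgroup.card_le_of_le hle))
  refine ⟨w, c, Q', A', S', ?_, hcard⟩
  have hle' : T ≤ moveGroup z E' := fun t ht => ⟨ht.1, hconj t ht⟩
  refine (Subgroup.eq_of_le_of_card_ge hle' (le_of_eq ?_)).symm
  rw [S'.card_moveGroup hc, hcard, hT, S.card_moveGroup hc, S'.card_Q hc, S.card_Q hc]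

end ShapeTwo

end Cfsg.Agent.H3.Asch
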