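import Cfsg.Agent.H3.Asch.ShapeTwoAssembly
import Cfsg.Agent.H3.Asch.ShapeTwoOutside
import Cfsg.Agent.H30.Asch.ShapeTwoBurnside

/-!
No element proper, lines of shape two: CASE II, reduced to the module step (elements normalising the
translations fix the class of `u`).
-/

set_option autoImplicit false
set_option linter.unusedSectionVars false

namespace Cfsg.Agent.H3.Asch

open Subgroup MulAction
open Cfsg.Agent.H30.Asch

universe u v

variable {G : Type u} [Group G] {Ω : Type v} [MulAction G Ω] {D : Set G} [Finite G] [Finite Ω]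

/-- The module step: an element centralising `E` and normalising the translations fixes the class of `u`. -/
def ClassFix (G : Type u) [Group G] [Finite G] (Ω : Type v) [MulAction G Ω] [Finite Ω] (D : Set G) : Prop :=
  NPCtx G Ω D → ∀ (u v : G) (x y : Ω) (E Q A : Subgroup G), ShapeTwo D u v x y E Q A →
    MaxKer D u x →
    (∀ P : Subgroup G, IsPGroup 2 P → moveGroup u E ≤ P → P ≤ centralizer (E : Set G) →
      P = moveGroup u E) →
    (∃ z ∈ moveGroup u E, z * z = 1 ∧ ¬ Commute z u) →
    ∀ g : G, (∀ e ∈ E, Commute g e) → (∀ t ∈ moveGroup u E, g * t * g⁻¹ ∈ moveGroup u E) →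
      ∃ k ∈ lineKer Ω u, ∃ e ∈ E, g * u * g⁻¹ = k * e

/-- CASE II from the module step. -/
theorem caseTwo_of_classFix (hF : ClassFix G Ω D) : CaseTwo G Ω D := by
  intro hc u v x y E Q A S hmax hP hex
  refine S.centralizer_le_move_of_normalizer hc hP (fun s hs t ht => ?_) fun g hg hgT => ?_
  · have h := S.comm_mem_of_outside hc hex (inv_mem ht) (inv_mem hs)
    rwa [inv_inv, inv_inv, ← mul_inv_rev, mul_assoc (s * t)⁻¹] at h
  have hgE : ∀ e ∈ E, Commute g e := fun e he => (mem_centralizer_iff.mp hg e he).symm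
  refine S.mem_move_of_fix_classes hc (S.sq_mem_of_outside hc hex)
    (fun z hzT hz2 hzu => S.friend_of_outside hc hmax hex hzT hz2 hzu) hgE
    (hF hc u v x y E Q A S hmax hP hex g hgE hgT) fun z hzT hz2 hzu => ?_
  obtain ⟨w, c, Q', A', S', hmove, hcard⟩ := S.friend_of_outside hc hmax hex hzT hz2 hzu
  refine hF hc z w x c E Q' A' S' (fun w' z' c' h' => hcard ▸ hmax w' z' c' h') ?_
    ⟨u, hmove ▸ S.ker_le_move hc (S.u_mem_ker hc), S.uu, fun h => hzu h.symm⟩ g hgE ?_
  · rw [hmove]; exact hP
  · rw [hmove]; exact hgT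

/-- `ShapeTwoNone` from the module step. -/
theorem shapeTwoNone_of_classFix (hF : ClassFix G Ω D) : ShapeTwoNone G Ω D :=
  shapeTwoNone_of_caseTwo (caseTwo_of_classFix hF)

end Cfsg.Agent.H3.Asch
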