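import Cfsg.Agent.H3.Asch.ShapeTwoTrans
import Cfsg.Agent.H30.Asch.RankPairs
import Cfsg.Agent.H26.Asch.ShapeTwoCount

/-!
No element proper, lines of shape two (notes/helper26_asch_shape2.md, MAX): for a four group at `x` with the
largest kernel, the group of translations is a maximal two-subgroup of the centraliser of `E`.
-/

set_option autoImplicit false
set_option linter.style.haveILetI false
set_option linter.unusedSectionVars false

namespace Cfsg.Agent.H3.Asch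

open Subgroup MulAction
open Cfsg.Agent.H14.Asch
open Cfsg.Agent.H39
open Cfsg.Agent.H73.Asch (RankTwoBad Line2 HasLines2)
open Cfsg.Agent.H30.Asch
open scoped commutatorElement

universe u v

variable {G : Type u} [Group G] {Ω : Type v} [MulAction G Ω] {D : Set G}

/-- No four group at `x` has a larger kernel than `u`. -/
def MaxKer (D : Set G) (u : G) (x : Ω) : Prop :=
  ∀ (w z : G) (c : Ω), Quad Ω D w z x c → Nat.card (lineKer Ω w) ≤ Nat.card (lineKer Ω u)

/-- A non-trivial element of a two-group has a power which is an involution. -/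
theorem exists_invol_zpowers {P : Subgroup G} (hP : IsPGroup 2 P) {g : G} (hg : g ∈ P) (hg1 : g ≠ 1) :
    ∃ h ∈ zpowers g, h * h = 1 ∧ h ≠ 1 := by
  haveI : Fact (Nat.Prime 2) := ⟨Nat.prime_two⟩
  obtain ⟨k, hk⟩ := IsPGroup.iff_orderOf.mp hP ⟨g, hg⟩
  rw [Subgroup.orderOf_mk] at hk
  obtain ⟨i, rfl⟩ : ∃ i, k = i + 1 := ⟨k - 1, by
    rcases k with _ | k
    · exact absurd (orderOf_eq_one_iff.mp (by simpa using hk)) hg1
    · omega⟩
  refine ⟨g ^ 2 ^ i, npow_mem_zpowers g _, ?_, fun e => ?_⟩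
  · rw [← pow_add, ← mul_two, ← pow_succ, ← hk, pow_orderOf_eq_one]
  · have := orderOf_dvd_of_pow_eq_one e
    rw [hk, Nat.pow_dvd_pow_iff_le_right (by norm_num)] at this
    omega

variable [Finite G] [Finite Ω]

/-- With no element proper every four group has a line of shape two. -/
theorem exists_shapeTwo (hc : NPCtx G Ω D) {w z : G} {x c : Ω} (hq : Quad Ω D w z x c) :
    ∃ E Q A : Subgroup G, ShapeTwo D w z x c E Q A := by
  obtain ⟨E, Q, hl⟩ := hc.lines w x hq.bu hq.hx.1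
  obtain ⟨hne, A, hA, -, hAn, hAc, hAt, h2, h2'⟩ := exists_shapeTwo_data hc hq hl
  refine ⟨E, Q, A, hq, hl, h2, fun g hg hcom => ?_, hne, hA, hAn, hAc, hAt⟩
  by_contra hgE
  obtain ⟨k, hk, l, -, hk1, -⟩ := h2' g hg hgE
  exact hk1 (commutatorElement_eq_one_iff_commute.mpr (hcom k hk))

/-- A four group at `x` with the largest kernel. -/
theorem exists_maxKer {u v : G} {x y : Ω} (hq : Quad Ω D u v x y) :
    ∃ (w z : G) (c : Ω), Quad Ω D w z x c ∧ MaxKer D w x := by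
  haveI : Nonempty {p : G × G × Ω // Quad Ω D p.1 p.2.1 x p.2.2} := ⟨⟨(u, v, y), hq⟩⟩
  obtain ⟨⟨⟨w, z, c⟩, hp⟩, hmax⟩ := Finite.exists_max
    fun p : {p : G × G × Ω // Quad Ω D p.1 p.2.1 x p.2.2} => Nat.card (lineKer Ω p.1.1)
  exact ⟨w, z, c, hp, fun w' z' c' h' => hmax ⟨(w', z', c'), h'⟩⟩

namespace ShapeTwo

variable {u v : G} {x y : Ω} {E Q A : Subgroup G} (S : ShapeTwo D u v x y E Q A) (hc : NPCtx G Ω D)
include S hc

theorem E_eq {w z : G} {c : Ω} {E' Q' A' : Subgroup G} (S' : ShapeTwo D w z x c E' Q' A') : E' = E :=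
  SetLike.ext fun _ => (S'.mem_E hc).trans (S.mem_E hc).symm

omit hc in
theorem u_ne : u ≠ 1 := ne_one_of_orderOf_eq_two S.quad.bu.1

/-- The scalar of an element of the kernel is unique on `E`. -/
theorem scalar_eq {k α β : G} (hα : α ∈ A) (hβ : β ∈ A) (h1 : IsScalar Ω u k E α)
    (h2 : IsScalar Ω u k E β) {a : G} (ha : a ∈ E) : α * a * α⁻¹ = β * a * β⁻¹ :=
  S.pair_unique hc ha (S.conj_A_E hc hα ha) (S.conj_A_E hc hβ ha) (h1 a ha) (h2 a ha)

/-- A two-element centralising `E` which moves `u` into the kernel times `E` moves it inside `u E`. -/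
theorem eq_u_of_two {g k e : G} {m : ℕ} (hm : g ^ 2 ^ m = 1) (hgE : ∀ a ∈ E, Commute g a)
    (hk : k ∈ lineKer Ω u) (he : e ∈ E) (hgu : g * u * g⁻¹ = k * e) : k = u := by
  have hu := S.u_mem_ker hc
  have huE := S.not_mem_E_of_fix hu S.u_ne
  have hk1 : k ≠ 1 := fun e1 => huE (by
    rw [e1, one_mul] at hgu
    have : u = e := by
      calc u = g⁻¹ * (g * u * g⁻¹) * g := by group
        _ = e := by rw [hgu, mul_assoc, ← (hgE e he).eq, inv_mul_cancel_left]
    rw [this]; exact he)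
  obtain ⟨δ, hδ, hδs⟩ := S.exists_scalar_ker hc hk hk1
  have key : ∀ n : ℕ, ∃ k' ∈ lineKer Ω u, k' ≠ 1 ∧ ∃ e' ∈ E,
      g ^ n * u * (g ^ n)⁻¹ = k' * e' ∧ IsScalar Ω u k' E (δ ^ n) := by
    intro n
    induction n with
    | zero => exact ⟨u, hu, S.u_ne, 1, one_mem E, by simp, by simpa using S.isScalar_u⟩
    | succ n ih =>
      obtain ⟨k', hk', hk'1, e', he', e1, hs⟩ := ih
      obtain ⟨k'', hk'', hk''1, e'', he'', e2, hs'⟩ :=
        S.conj_ker_stab hc hgE hk he hgu hδ hδs hk' hk'1 (pow_mem hδ n) hs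
      refine ⟨k'', hk'', hk''1, e'' * e', mul_mem he'' he', ?_, by rwa [pow_succ]⟩
      calc g ^ (n + 1) * u * (g ^ (n + 1))⁻¹ = g * (g ^ n * u * (g ^ n)⁻¹) * g⁻¹ := by
            rw [pow_succ']; group
        _ = (g * k' * g⁻¹) * (g * e' * g⁻¹) := by rw [e1]; group
        _ = k'' * (e'' * e') := by rw [e2, conj_eq_of_commute (hgE e' he'), mul_assoc]
  obtain ⟨k', hk', -, e', he', e1, hs⟩ := key (2 ^ m)
  rw [hm] at e1
  simp only [one_mul, inv_one, mul_one] at e1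
  have he'1 : e' = 1 := S.eq_one_of_mem_Q_ker (S.line.E_le he') (by
    rw [show e' = k'⁻¹ * u by rw [e1, inv_mul_cancel_left]]; exact mul_mem (inv_mem hk') hu)
  rw [he'1, mul_one] at e1
  subst e1
  have hδc : ∀ a ∈ E, δ * a * δ⁻¹ = a := by
    intro a ha
    have h1 := S.scalar_eq hc (pow_mem hδ _) (one_mem A) hs S.isScalar_u ha
    rw [one_mul, inv_one, mul_one] at h1
    have hodd : Odd (orderOf δ) :=
      (H29.Asch.line2_odd_card S.line hc.crit S.quad.hy.1 S.quad.ne.symm).of_dvd_nat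
        (Subgroup.orderOf_dvd_natCard _ (S.A_le hδ))
    obtain ⟨i, hi⟩ := exists_pow_eq_self_of_coprime
      (x := δ) (n := 2 ^ m) (Nat.Coprime.pow_left m (Nat.coprime_two_left.mpr hodd))
    rw [← hi]
    exact conj_eq_of_commute ((commute_of_conj_eq h1).pow_left i)
  obtain ⟨a, ha, ha1, -⟩ := line2_exists_ne S.line (a := 1)
  have h2 := hδs a ha
  rw [hδc a ha] at h2
  exact S.pair_inj hc hk hu S.uu ha ha1 ha h2 rfl

theorem eq_one_of_Q_fix {q : G} {c : Ω} (hq : q ∈ Q) (hcx : c ≠ x) (hqc : q • c = c) : q = 1 := by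
  by_contra hq1
  obtain ⟨h, hh, hh2, hh1⟩ := exists_invol_zpowers S.line.isPGroup hq hq1
  exact hh1 (S.E_fixed hc (S.line.omega h (zpowers_le.mpr hq hh) (orderOf_eq_two_of_mul_self hh2 hh1)) hcx
    (mem_stabilizer_iff.mp (zpowers_le.mpr (mem_stabilizer_iff.mpr hqc) hh)))

theorem move_sq {n : G} (hn : n ∈ moveGroup u E) : Commute (n * n) u := by
  obtain ⟨hnE, b, hb, e⟩ := hn
  apply commute_of_conj_eq
  calc n * n * u * (n * n)⁻¹ = n * (n * u * n⁻¹) * n⁻¹ := by group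
    _ = n * (u * b) * n⁻¹ := by rw [e]
    _ = (n * u * n⁻¹) * (n * b * n⁻¹) := by group
    _ = u := by rw [e, conj_eq_of_commute (hnE b hb), mul_assoc, S.E_sq hc hb, mul_one]

/-- A translation fixing a point of the line of some `u * a` commutes with `u`. -/
theorem commute_u_of_fix {n a : G} {c : Ω} (hn : n ∈ moveGroup u E) (ha : a ∈ E) (hcx : c ≠ x)
    (hac : (u * a) • c = c) (hnc : n • c = c) : Commute n u := by
  obtain ⟨hnE, b, hb, e⟩ := hn
  apply commute_of_conj_eq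
  have h1 : (n * (u * a) * n⁻¹) • c = c := by
    rw [mul_smul, mul_smul, inv_smul_eq_iff.mpr hnc.symm, hac, hnc]
  rw [show n * (u * a) * n⁻¹ = (n * u * n⁻¹) * (n * a * n⁻¹) by group, e,
    conj_eq_of_commute (hnE a ha)] at h1
  have h2 : (u * a * (u * b * a)) • c = c := by rw [mul_smul, h1, hac]
  have hba : u * a * (u * b * a) = b := by
    calc u * a * (u * b * a) = u * (a * u) * (b * a) := by group
      _ = (u * u) * (a * (b * a)) := by rw [(S.E_commute_u ha).eq]; group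
      _ = (a * a) * b := by rw [S.uu, one_mul, (S.E_comm hb ha).eq, mul_assoc]
      _ = b := by rw [S.E_sq hc ha, one_mul]
  rw [hba] at h2
  rw [e, S.E_fixed hc hb hcx h2, mul_one]

/-- At a point on no line of the `u * a` no translation commuting with `u` is fixed. -/
theorem eq_one_of_no_line {n : G} {c : Ω} (hn : n ∈ moveGroup u E) (hnu : Commute n u)
    (hnc : n • c = c) (hcx : c ≠ x) (hline : ∀ a ∈ E, (u * a) • c ≠ c) : n = 1 := by
  by_contra hn1
  obtain ⟨h, hh, hh2, hh1⟩ := exists_invol_zpowers (S.isPGroup_moveGroup hc) hn hn1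
  have hhc : h • c = c := mem_stabilizer_iff.mp (zpowers_le.mpr (mem_stabilizer_iff.mpr hnc) hh)
  have hhu : Commute h u := by
    obtain ⟨i, rfl⟩ := mem_zpowers_iff.mp hh
    exact hnu.zpow_left i
  obtain ⟨e, he, k, hk, -, rfl⟩ := S.mem_cent_invol hc (zpowers_le.mpr hn hh).1 hhu hh2
  by_cases hk1 : k = 1
  · rw [hk1, mul_one] at hhc hh1
    exact hh1 (S.E_fixed hc he hcx hhc)
  obtain ⟨α, hα, hs⟩ := S.exists_scalar_ker hc hk hk1
  have h1 := hs _ (S.conj_A_E hc (inv_mem hα) he)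
  rw [show α * (α⁻¹ * e * α⁻¹⁻¹) * α⁻¹ = e by group, ← (S.ker_commute_E hc hk he).eq] at h1
  exact hline _ (S.conj_A_E hc (inv_mem hα) he) ((Set.ext_iff.mp h1 c).mp hhc)

/-- At most `|lineKer|` translations fix a point of the line of some `u * a`. -/
theorem card_fix_line {a : G} {c : Ω} (ha : a ∈ E) (hcx : c ≠ x) (hac : (u * a) • c = c)
    {H : Subgroup G} (hH : H ≤ moveGroup u E) (hHc : ∀ n ∈ H, n • c = c) :
    Nat.card H ≤ Nat.card (lineKer Ω u) := by
  have hdec : ∀ n : H, ∃ q ∈ Q, ∃ k : lineKer Ω u, (n : G) = q * k := fun n => by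
    obtain ⟨q, hq, k, hk, e⟩ :=
      S.mem_cent hc (hH n.2).1 (S.commute_u_of_fix hc (hH n.2) ha hcx hac (hHc n n.2))
    exact ⟨q, hq, ⟨k, hk⟩, e⟩
  choose q hq k hk using hdec
  refine Nat.card_le_card_of_injective k fun n n' e => Subtype.ext ?_
  have e1 : (n : G) * (n' : G)⁻¹ = q n * (q n')⁻¹ := by rw [hk n, hk n', e]; group
  have h2 : q n * (q n')⁻¹ = 1 := S.eq_one_of_Q_fix hc (mul_mem (hq n) (inv_mem (hq n'))) hcx (by
    rw [← e1, mul_smul, inv_smul_eq_iff.mpr (hHc n' n'.2).symm, hHc n n.2])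
  exact mul_inv_eq_one.mp (e1.trans h2)

/-- The number of points. -/
theorem card_omega : Nat.card Ω =
    Nat.card E ^ 3 * (Nat.card E * (Nat.card E - 1) + 1) + 1 := by
  rw [H26.Asch.card_points hc S.quad S.line, S.card_Q hc]
  obtain ⟨p, hp⟩ : ∃ p, Nat.card E = p + 1 := ⟨Nat.card E - 1, by have := S.eight_le hc; omega⟩
  rw [hp, Nat.add_sub_cancel]
  ring

/-- A two-group containing the translations has a small orbit off `x`. -/
theorem exists_small_orbit {H : Subgroup G} (hH : IsPGroup 2 H) (hHx : ∀ g ∈ H, g • x = x) :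
    ∃ c : Ω, c ≠ x ∧
      Nat.card H ≤ Nat.card E ^ 3 * Nat.card ↥(stabilizer G c ⊓ H) := by
  classical
  haveI : Fact (Nat.Prime 2) := ⟨Nat.prime_two⟩
  obtain ⟨a, ha⟩ := IsPGroup.iff_card.mp (S.line.isPGroup.to_le S.line.E_le)
  have ha3 : 1 ≤ a := by
    rcases a with _ | a
    · have := S.eight_le hc; rw [ha] at this; norm_num at this
    · omega
  by_contra hcon
  push Not at hcon
  have horb : ∀ c : Ω, c ≠ x → 2 * Nat.card E ^ 3 ∣ Nat.card (orbit H c) := by
    intro c hcx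
    obtain ⟨i, hi⟩ := hH.card_orbit c
    have h1 : Nat.card (orbit H c) * Nat.card ↥(stabilizer G c ⊓ H) = Nat.card H := by
      rw [Nat.card_congr (orbitEquivQuotientStabilizer H c), ← Subgroup.index_eq_card,
        show Nat.card ↥(stabilizer G c ⊓ H) = Nat.card (stabilizer H c) from ?_,
        Subgroup.index_mul_card]
      exact (Nat.card_congr
        { toFun := fun s => ⟨s.1.1, mem_stabilizer_iff.mpr s.2, s.1.2⟩
          invFun := fun s => ⟨⟨s.1, s.2.2⟩, mem_stabilizer_iff.mp s.2.1⟩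
          left_inv := fun _ => rfl
          right_inv := fun _ => rfl }).symm
    have h2 := hcon c hcx
    rw [← h1] at h2
    have h3 := Nat.lt_of_mul_lt_mul_right h2
    rw [hi, ha, ← pow_mul] at h3
    rw [hi, ha, ← pow_mul, ← pow_succ']
    exact Nat.pow_dvd_pow 2 ((Nat.pow_lt_pow_iff_right (by norm_num)).mp h3)
  haveI := Fintype.ofFinite (orbitRel.Quotient H Ω)
  have hsum := Nat.card_congr (selfEquivSigmaOrbits H Ω)
  rw [Nat.card_sigma] at hsum
  set o : orbitRel.Quotient H Ω := Quotient.mk'' x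
  have hox : o.out = x := by
    have h1 : o.out ∈ orbit H x := orbitRel_apply.mp (Quotient.exact' (Quotient.out_eq' o))
    obtain ⟨g, hg⟩ := h1
    exact hg.symm.trans (hHx g g.2)
  rw [← Finset.add_sum_erase _ _ (Finset.mem_univ o), hox,
    show orbit H x = {x} from Set.eq_singleton_iff_unique_mem.mpr
      ⟨mem_orbit_self x, fun c ⟨g, hg⟩ => hg.symm.trans (hHx g g.2)⟩,
    Nat.card_coe_set_eq, Set.ncard_singleton, S.card_omega hc, add_comm 1] at hsum
  have hdvd : 2 * Nat.card E ^ 3 ∣ Nat.card E ^ 3 * (Nat.card E * (Nat.card E - 1) + 1) := by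
    rw [Nat.add_right_cancel hsum]
    refine Finset.dvd_sum fun ω hω => horb _ fun e => (Finset.mem_erase.mp hω).1 ?_
    rw [← Quotient.out_eq' ω, e]
  rw [mul_comm 2, Nat.mul_dvd_mul_iff_left (pow_pos Nat.card_pos 3)] at hdvd
  have h2 : 2 ∣ Nat.card E := by rw [ha]; exact dvd_pow_self 2 (by omega)
  have := (Nat.dvd_add_right (dvd_mul_of_dvd_left h2 _)).mp hdvd
  omega

/-- **MAX**: for the largest kernel the translations form a maximal two-subgroup of `C(E)`. -/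
theorem eq_moveGroup (hmax : MaxKer D u x) {P : Subgroup G} (hP : IsPGroup 2 P)
    (hle : moveGroup u E ≤ P) (hPE : P ≤ centralizer (E : Set G)) : P = moveGroup u E := by
  classical
  haveI : Fact (Nat.Prime 2) := ⟨Nat.prime_two⟩
  by_contra hne
  set T := moveGroup u E with hT
  have hcE : ∀ {g}, g ∈ P → ∀ e ∈ E, Commute g e :=
    fun {g} hg e he => (mem_centralizer_iff.mp (hPE hg) e he).symm
  obtain ⟨n, hn⟩ := IsPGroup.iff_card.mp (S.isPGroup_moveGroup hc)
  obtain ⟨m, hm⟩ := IsPGroup.iff_card.mp hP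
  have hnm : n < m := by
    rcases lt_or_ge n m with h | h
    · exact h
    · exact absurd (eq_of_le_of_card_ge hle (by
        rw [hn, hm]; exact Nat.pow_le_pow_right two_pos h)).symm hne
  obtain ⟨K, hK, hTK⟩ := Sylow.exists_subgroup_card_pow_succ (p := 2) (n := n)
    (hm ▸ Nat.pow_dvd_pow 2 hnm) (H := T.subgroupOf P)
    ((Nat.card_congr (subgroupOfEquivOfLe hle).toEquiv).trans hn)
  set T₁ := K.map P.subtype with hT₁
  have hT₁P : T₁ ≤ P := map_subtype_le K
  have hTT₁ : T ≤ T₁ := fun t ht => ⟨⟨t, hle ht⟩, hTK ht, rfl⟩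
  have hT₁c : Nat.card T₁ = 2 * Nat.card T := by
    rw [hT₁, card_map_of_injective P.subtype_injective, hK, hn, pow_succ']
  have hidx : (T.subgroupOf T₁).index = 2 := by
    have h1 := Subgroup.index_mul_card (T.subgroupOf T₁)
    rw [Nat.card_congr (subgroupOfEquivOfLe hTT₁).toEquiv, hT₁c] at h1
    exact Nat.eq_of_mul_eq_mul_right Nat.card_pos h1
  have hmul : ∀ {s t : G}, s ∈ T₁ → t ∈ T₁ → (s * t ∈ T ↔ (s ∈ T ↔ t ∈ T)) := by
    intro s t hs ht
    simpa [mem_subgroupOf] using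
      Subgroup.mul_mem_iff_of_index_two hidx (a := (⟨s, hs⟩ : T₁)) (b := ⟨t, ht⟩)
  have hnorm : ∀ {s t : G}, s ∈ T₁ → t ∈ T → s * t * s⁻¹ ∈ T := fun {s t} hs ht =>
    (hmul (mul_mem hs (hTT₁ ht)) (inv_mem hs)).mpr
      (by rw [hmul hs (hTT₁ ht), inv_mem_iff]; simp [ht])
  obtain ⟨c, hcx, hsize⟩ := S.exists_small_orbit hc (hP.to_le hT₁P)
    fun g hg => S.smul_of_centE hc (hcE (hT₁P hg))
  set H := stabilizer G c ⊓ T₁ with hH
  have hr : 2 * Nat.card (lineKer Ω u) ≤ Nat.card H := by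
    refine Nat.le_of_mul_le_mul_left ?_ (pow_pos (Nat.card_pos (α := E)) 3)
    calc Nat.card E ^ 3 * (2 * Nat.card (lineKer Ω u)) = 2 * Nat.card T := by
          rw [hT, S.card_moveGroup hc, S.card_Q hc]; ring
      _ = Nat.card T₁ := hT₁c.symm
      _ ≤ _ := hsize
  have hfour := S.four_le_ker hc
  have hHc : ∀ {s}, s ∈ H → s • c = c := fun {s} hs => mem_stabilizer_iff.mp hs.1
  have hHT₁ : ∀ {s}, s ∈ H → s ∈ T₁ := fun {s} hs => hs.2
  by_cases hline : ∃ a ∈ E, (u * a) • c = c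
  · -- on a line: the stabiliser consists of translations
    obtain ⟨a, ha, hac⟩ := hline
    have hHT : H ≤ T := by
      intro s hs
      have hsE := hcE (hT₁P (hHT₁ hs))
      have huT : u ∈ T := S.ker_le_move hc (S.u_mem_ker hc)
      set h' := s * u * s⁻¹ * a with hh'
      have hh'T : h' ∈ T := mul_mem (hnorm (hHT₁ hs) huT) (S.E_le_move hc ha)
      have hh'eq : h' = s * (u * a) * s⁻¹ := by
        rw [hh', show s * (u * a) * s⁻¹ = (s * u * s⁻¹) * (s * a * s⁻¹) by group,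
          conj_eq_of_commute (hsE a ha)]
      have hh'c : h' • c = c := by
        rw [hh'eq, mul_smul, mul_smul, inv_smul_eq_iff.mpr (hHc hs).symm, hac, hHc hs]
      obtain ⟨e, he, k, hk, -, hek⟩ := S.mem_cent_invol hc hh'T.1
        (S.commute_u_of_fix hc hh'T ha hcx hac hh'c) (by
          rw [hh'eq, show s * (u * a) * s⁻¹ * (s * (u * a) * s⁻¹) = s * (u * (a * u) * a) * s⁻¹ by group,
            (S.E_commute_u ha).eq, show u * (u * a) * a = (u * u) * (a * a) by group, S.uu,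
            S.E_sq hc ha, one_mul, mul_one, mul_inv_cancel])
      have hsu : s * u * s⁻¹ = k * (e * a) := by
        have h1 : s * u * s⁻¹ = h' * a := by
          rw [hh', mul_assoc (s * u * s⁻¹) a a, S.E_sq hc ha, mul_one]
        rw [h1, hek, (S.ker_commute_E hc hk he).eq, mul_assoc]
      obtain ⟨i, hi⟩ := hP ⟨s, hT₁P (hHT₁ hs)⟩
      have hi' : s ^ 2 ^ i = 1 := congrArg Subtype.val hi
      exact ⟨hsE, e * a, mul_mem he ha, by
        rw [hsu, S.eq_u_of_two hc hi' hsE hk (mul_mem he ha) hsu]⟩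
    have := S.card_fix_line hc ha hcx hac hHT fun n hn => hHc hn
    omega
  -- off the lines: the translations in the stabiliser form an elementary group
  push Not at hline
  have hN1 : ∀ {t}, t ∈ H → t ∈ T → t * t = 1 := fun {t} htH htT =>
    S.eq_one_of_no_line hc (mul_mem htT htT) (S.move_sq hc htT)
      (by rw [mul_smul, hHc htH, hHc htH]) hcx hline
  have hNc : ∀ {t t'}, t ∈ H → t ∈ T → t' ∈ H → t' ∈ T → Commute t t' := by
    intro t t' h1 h2 h3 h4
    have e1 := hN1 (mul_mem h1 h3) (mul_mem h2 h4)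
    calc t * t' = (t * t')⁻¹ := (inv_eq_of_mul_eq_one_right e1).symm
      _ = t' * t := by rw [mul_inv_rev, inv_eq_of_mul_eq_one_right (hN1 h1 h2),
        inv_eq_of_mul_eq_one_right (hN1 h3 h4)]
  -- a central involution
  obtain ⟨w, hwH, hwT, hw1, hwc, hbig⟩ : ∃ w, w ∈ H ∧ w ∈ T ∧ w ≠ 1 ∧ (∀ s ∈ H, Commute s w) ∧
      Nat.card H ≤ 2 * Nat.card ↥(H ⊓ T) := by
    have hex : ∀ {N : ℕ}, N ≤ Nat.card ↥(H ⊓ T) → 2 ≤ N → ∃ t, t ∈ H ∧ t ∈ T ∧ t ≠ 1 := by
      intro N hN h2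
      haveI : Nontrivial ↥(H ⊓ T) := Finite.one_lt_card_iff_nontrivial.mp (by omega)
      obtain ⟨⟨t, ht⟩, htne⟩ := exists_ne (1 : ↥(H ⊓ T))
      exact ⟨t, ht.1, ht.2, fun e => htne (Subtype.ext e)⟩
    by_cases hall : H ≤ T
    · have hcard : Nat.card ↥(H ⊓ T) = Nat.card H := by rw [inf_eq_left.mpr hall]
      obtain ⟨t, h1, h2, h3⟩ := hex (N := 2) (by omega) le_rfl
      exact ⟨t, h1, h2, h3, fun s hs => hNc hs (hall hs) h1 h2, by omega⟩
    obtain ⟨g, hgH, hgT⟩ := SetLike.not_le_iff_exists.mp hall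
    have hquot : ∀ {s}, s ∈ H → s ∉ T → g⁻¹ * s ∈ H ∧ g⁻¹ * s ∈ T := fun {s} hs hsT =>
      ⟨mul_mem (inv_mem hgH) hs,
        (hmul (inv_mem (hHT₁ hgH)) (hHT₁ hs)).mpr (by rw [inv_mem_iff]; simp [hgT, hsT])⟩
    have hbig : Nat.card H ≤ 2 * Nat.card ↥(H ⊓ T) := by
      let f : H → Bool × ↥(H ⊓ T) := fun s =>
        if hs : (s : G) ∈ T then (false, ⟨s, s.2, hs⟩) else (true, ⟨g⁻¹ * s, hquot s.2 hs⟩)
      have := Nat.card_le_card_of_injective f fun s s' e => by
        by_cases hs : (s : G) ∈ T <;> by_cases hs' : (s' : G) ∈ T <;>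
          simp [f, hs, hs'] at e
        · exact Subtype.ext (Subtype.mk.inj e)
        · exact Subtype.ext (mul_left_cancel (Subtype.mk.inj e))
      simpa using this
    have hg2 : g * g ∈ H ∧ g * g ∈ T :=
      ⟨mul_mem hgH hgH, (hmul (hHT₁ hgH) (hHT₁ hgH)).mpr Iff.rfl⟩
    obtain ⟨w, h1, h2, h3, hgw⟩ : ∃ w, w ∈ H ∧ w ∈ T ∧ w ≠ 1 ∧ Commute g w := by
      by_cases hcent : ∀ t, t ∈ H → t ∈ T → Commute g t
      · obtain ⟨t, h1, h2, h3⟩ := hex (N := 2) (by omega) le_rfl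
        exact ⟨t, h1, h2, h3, hcent t h1 h2⟩
      push Not at hcent
      obtain ⟨t, h1, h2, hne'⟩ := hcent
      have h3 : g * t * g⁻¹ ∈ H := mul_mem (mul_mem hgH h1) (inv_mem hgH)
      have h4 : g * t * g⁻¹ ∈ T := hnorm (hHT₁ hgH) h2
      refine ⟨t * (g * t * g⁻¹), mul_mem h1 h3, mul_mem h2 h4, fun e => hne' ?_, ?_⟩
      · exact commute_of_conj_eq ((inv_eq_of_mul_eq_one_right e).symm.trans
          (inv_eq_of_mul_eq_one_right (hN1 h1 h2)))
      · apply commute_of_conj_eq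
        rw [show g * (t * (g * t * g⁻¹)) * g⁻¹ = (g * t * g⁻¹) * (g * g * t * (g * g)⁻¹) by group,
          conj_eq_of_commute (hNc hg2.1 hg2.2 h1 h2), (hNc h3 h4 h1 h2).eq]
    refine ⟨w, h1, h2, h3, fun s hs => ?_, hbig⟩
    by_cases hsT : s ∈ T
    · exact hNc hs hsT h1 h2
    · have := hquot hs hsT
      rw [show s = g * (g⁻¹ * s) by group]
      exact hgw.mul_left (hNc this.1 this.2 h1 h2)
  obtain ⟨z, hzH, hzT, hz1, hzw⟩ : ∃ z, z ∈ H ∧ z ∈ T ∧ z ≠ 1 ∧ z ≠ w := by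
    by_contra hcon
    push Not at hcon
    have hsub : ((H ⊓ T : Subgroup G) : Set G) ⊆ {1, w} := fun t ht => by
      by_cases ht1 : t = 1
      · exact Or.inl ht1
      · exact Or.inr (hcon t ht.1 ht.2 ht1)
    have h2 := (Set.ncard_le_ncard hsub).trans (Set.ncard_insert_le _ _)
    rw [Set.ncard_singleton, ← Nat.card_coe_set_eq] at h2
    have : Nat.card ↥(H ⊓ T) ≤ 2 := h2
    omega
  have hfx : ∀ {s}, s ∈ H → s • x = x := fun hs => S.smul_of_centE hc (hcE (hT₁P (hHT₁ hs)))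
  have hq : Quad Ω D w z x c := quad_of_pair hc.two
    (orderOf_eq_two_of_mul_self (hN1 hwH hwT) hw1) (orderOf_eq_two_of_mul_self (hN1 hzH hzT) hz1)
    (hNc hwH hwT hzH hzT) hzw.symm hcx.symm ⟨hfx hwH, hfx hzH⟩ ⟨hHc hwH, hHc hzH⟩
  obtain ⟨E', Q', A', S'⟩ := exists_shapeTwo hc hq
  have hE := S.E_eq hc S'
  subst hE
  have hle' : H ≤ lineKer Ω w := fun s hs =>
    S'.mem_ker_of_fix hc (hcE (hT₁P (hHT₁ hs))) (hwc s hs) (hHc hs)
  have h1 := Subgroup.card_le_of_le hle'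
  have h2 := hmax w z c hq
  omega

end ShapeTwo

end Cfsg.Agent.H3.Asch
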