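import Cfsg.Agent.Coprime.OrbitBound

/-!
A cyclic group acting fixed-point-freely on an odd abelian group `X`, both acting on an elementary abelian
`2`-group without fixed points of `X`: the fixed points of the cyclic group number at most the root of the order.
-/

set_option autoImplicit false

namespace Cfsg.Agent.H3.Asch.RankModule

open Cfsg.Agent.Coprime
open Cfsg.Agent.Coprime.Weights
open Cfsg.Agent.Coprime.OrbitBound

section Weights

variable {k W U : Type*} [Field k] [IsAlgClosed k] [AddCommGroup W] [Module k W]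
  [FiniteDimensional k W] [CommGroup U] [Finite U]

/-- A cyclic group permuting the nontrivial characters freely has a small fixed space. -/
theorem fixed_bound_cyclic {p : ℕ} (hp : 0 < p) (hU : (Nat.card U : k) ≠ 0) (τ : U →* Module.End k W)
    (g : Module.End k W) (hgp : g ^ p = 1) (σ : MulAut U) (hσ : σ ^ p = 1)
    (hg : ∀ u, g * τ u = τ (σ u) * g)
    (hfix : ∀ i, 0 < i → i < p → ∀ φ : U →* kˣ, (∀ u, φ ((σ ^ i) u) = φ u) → φ = 1)
    (hone : proj τ 1 = 0) :
    p * Module.finrank k (LinearMap.ker (g - 1)) ≤ Module.finrank k W := by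
  classical
  have := finite_chars (U := U) hU
  let s : Equiv.Perm (U →* kˣ) :=
    { toFun := fun φ => φ.comp σ.symm.toMonoidHom
      invFun := fun φ => φ.comp σ.toMonoidHom
      left_inv := fun φ => MonoidHom.ext fun u => by simp
      right_inv := fun φ => MonoidHom.ext fun u => by simp }
  have hgs : ∀ φ, g * proj τ φ = proj τ (s φ) * g := fun φ => mul_proj_of_conj hg φ
  have hspow : ∀ n φ u, ((s ^ n) φ : U →* kˣ) ((σ ^ n) u) = φ u := by
    intro n
    induction n with
    | zero => intro φ u; rfl
    | succ n ih =>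
      intro φ u
      rw [pow_succ', pow_succ', Equiv.Perm.mul_apply, MulAut.mul_apply]
      show ((s ^ n) φ : U →* kˣ) (σ.symm (σ ((σ ^ n) u))) = φ u
      rw [MulEquiv.symm_apply_apply, ih]
  have hsp : s ^ p = 1 := Equiv.ext fun φ => MonoidHom.ext fun u => by
    have := hspow p φ u
    rwa [hσ, MulAut.one_apply] at this
  let _ := Fintype.ofFinite (U →* kˣ)
  let d : (U →* kˣ) → ℕ := fun φ => Module.finrank k (LinearMap.range (proj τ φ))
  let H := Subgroup.zpowers s
  have horbit : ∀ i, 0 < i → i < p → ∀ φ, φ ≠ 1 → (s ^ i) φ ≠ φ := by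
    intro i hi hip φ hφ h
    refine hφ (hfix i hi hip φ fun u => ?_)
    have := hspow i φ u
    rw [h] at this
    exact this
  have hgiter : ∀ n φ, g ^ n * proj τ φ = proj τ ((s ^ n) φ) * g ^ n := by
    intro n
    induction n with
    | zero => intro φ; simp
    | succ n ih =>
      intro φ
      rw [pow_succ', mul_assoc, ih, ← mul_assoc, hgs, mul_assoc, pow_succ' s, Equiv.Perm.mul_apply]
  set F := LinearMap.ker (g - 1) with hF
  have hFfix : ∀ f ∈ F, g f = f := fun f hf => by
    rwa [hF, LinearMap.mem_ker, LinearMap.sub_apply, Module.End.one_apply, sub_eq_zero] at hf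
  have hFpow : ∀ (n : ℕ) (f), f ∈ F → (g ^ n) f = f := fun n f hf => by
    induction n with
    | zero => rfl
    | succ n ih => rw [pow_succ', Module.End.mul_apply, ih, hFfix f hf]
  · let Ω := MulAction.orbitRel.Quotient H (U →* kˣ)
    let _ := Fintype.ofFinite Ω
    let ω₀ : Ω := Quotient.mk'' 1
    have hsfin : IsOfFinOrder s := isOfFinOrder_iff_pow_eq_one.mpr ⟨p, hp, hsp⟩
    have hmem : ∀ φ : U →* kˣ, ∃ n : ℕ, (s ^ n) (Quotient.mk'' φ : Ω).out = φ := by
      intro φ
      have := MulAction.orbitRel_apply.mp ((MulAction.orbitRel H (U →* kˣ)).symm'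
        (Quotient.mk_out (s := MulAction.orbitRel H _) φ))
      obtain ⟨⟨h, hh⟩, hhφ⟩ := this
      obtain ⟨n, rfl⟩ := (IsOfFinOrder.mem_powers_iff_mem_zpowers hsfin).mpr hh
      exact ⟨n, hhφ⟩
    have hone' : (ω₀ : Ω).out = 1 := by
      obtain ⟨n, hn⟩ := hmem 1
      have h1 : (s ^ n) 1 = 1 := MonoidHom.ext fun u => by
        have := hspow n 1 ((σ ^ n).symm u)
        rwa [MulEquiv.apply_symm_apply] at this
      exact (s ^ n).injective (hn.trans h1.symm)
    -- every translate of a system of representatives detects `F`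
    have hinj : ∀ i : Fin p, Module.finrank k F ≤
        ∑ ω ∈ Finset.univ.erase ω₀, d ((s ^ (i : ℕ)) (ω : Ω).out) := by
      intro i
      rw [Finset.sum_erase _ (by simp [d, hone', show (s ^ (i : ℕ)) (1 : U →* kˣ) = 1 from
        MonoidHom.ext fun u => by
          have := hspow i 1 ((σ ^ (i : ℕ)).symm u)
          rwa [MulEquiv.apply_symm_apply] at this, hone]), ← Module.finrank_pi_fintype k]
      refine LinearMap.finrank_le_finrank_of_injective
        (f := LinearMap.pi fun ω : Ω => (proj τ ((s ^ (i : ℕ)) ω.out)).rangeRestrict ∘ₗ F.subtype) ?_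
      rw [← LinearMap.ker_eq_bot, Submodule.eq_bot_iff]
      intro f hf
      refine Subtype.ext (eq_zero_of_forall_proj hU τ fun φ => ?_)
      obtain ⟨n, hn⟩ := hmem φ
      have h1 : proj τ ((s ^ (i : ℕ)) (Quotient.mk'' φ : Ω).out) (f : W) = 0 :=
        congrArg Subtype.val (congrFun (LinearMap.mem_ker.mp hf) (Quotient.mk'' φ : Ω))
      have h2 := congrArg (fun G : Module.End k W => G (f : W))
        (hgiter (i : ℕ) (Quotient.mk'' φ : Ω).out)
      simp only [Module.End.mul_apply, hFpow _ _ f.2, h1] at h2
      have hginj : Function.Injective (g ^ (i : ℕ)) := by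
        intro a b hab
        have := congrArg (g ^ ((p - 1) * (i : ℕ))) hab
        rwa [← Module.End.mul_apply, ← Module.End.mul_apply, ← pow_add,
          show (p - 1) * (i : ℕ) + i = p * i by
            rw [← Nat.succ_mul]; exact congrArg (· * (i : ℕ)) (Nat.succ_pred_eq_of_pos hp),
          pow_mul, hgp, one_pow, Module.End.one_apply, Module.End.one_apply] at this
      have h3 : proj τ (Quotient.mk'' φ : Ω).out (f : W) = 0 := hginj (h2.trans (map_zero _).symm)
      have h4 := congrArg (fun G : Module.End k W => G (f : W)) (hgiter n (Quotient.mk'' φ : Ω).out)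
      simp only [Module.End.mul_apply, hFpow _ _ f.2, h3, map_zero, hn] at h4
      exact h4.symm
    have h1 : p * Module.finrank k F ≤ ∑ i : Fin p, ∑ ω ∈ Finset.univ.erase ω₀, d ((s ^ (i : ℕ)) (ω : Ω).out) := by
      have := Finset.sum_le_sum (s := (Finset.univ : Finset (Fin p))) fun i _ => hinj i
      simpa using this
    refine h1.trans ?_
    rw [finrank_eq_sum hU τ, ← Finset.sum_product']
    set P := (Finset.univ : Finset (Fin p)) ×ˢ Finset.univ.erase ω₀
    let e : Fin p × Ω → (U →* kˣ) := fun iw => (s ^ (iw.1 : ℕ)) iw.2.out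
    have heinj : Set.InjOn e (P : Set (Fin p × Ω)) := by
      rintro ⟨i, ω⟩ hiω ⟨j, ω'⟩ - he
      have hω : ω = ω' := by
        rw [← Quotient.out_eq' ω, ← Quotient.out_eq' ω']
        refine Quotient.sound' (MulAction.orbitRel_apply.mpr ⟨⟨(s ^ (i : ℕ))⁻¹ * s ^ (j : ℕ),
          mul_mem (inv_mem (pow_mem (Subgroup.mem_zpowers s) _)) (pow_mem (Subgroup.mem_zpowers s) _)⟩, ?_⟩)
        show ((s ^ (i : ℕ))⁻¹ * s ^ (j : ℕ)) ω'.out = ω.out
        rw [Equiv.Perm.mul_apply, show (s ^ (j : ℕ)) ω'.out = (s ^ (i : ℕ)) ω.out from he.symm,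
          ← Equiv.Perm.mul_apply, inv_mul_cancel, Equiv.Perm.one_apply]
      subst hω
      have hne : ω.out ≠ 1 := fun h => by
        refine Finset.ne_of_mem_erase (Finset.mem_product.mp (Finset.mem_coe.mp hiω)).2 ?_
        show ω = ω₀
        rw [← Quotient.out_eq' ω, h]
      refine Prod.ext (Fin.ext ?_) rfl
      show (i : ℕ) = j
      by_contra hij
      have hper : ∀ a b : ℕ, a < b → b < p → (s ^ a) ω.out = (s ^ b) ω.out → False := by
        intro a b hab hb hab'
        have h1 : (s ^ (b - a)) ω.out = ω.out := (s ^ a).injective (by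
          rw [← Equiv.Perm.mul_apply, ← pow_add, Nat.add_sub_cancel' hab.le, hab'])
        exact horbit (b - a) (by omega) (by omega) _ hne h1
      rcases lt_or_gt_of_ne hij with h | h
      · exact hper _ _ h j.2 he
      · exact hper _ _ h i.2 he.symm
    calc ∑ x ∈ P, d ((s ^ (x.1 : ℕ)) x.2.out) = ∑ φ ∈ P.image e, d φ :=
          (Finset.sum_image fun a ha b hb h => heinj ha hb h).symm
      _ ≤ ∑ φ, d φ := Finset.sum_le_univ_sum_of_nonneg fun _ => Nat.zero_le _

end Weights

section Group

variable {E : Type*} [CommGroup E] [Finite E]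

/-- If the powers of `b` act fixed-point-freely on `X`, and `X` has no fixed points on `E`, then the fixed
points of `b` number at most `|E| ^ (1 / n)`. -/
theorem card_fixed_pow_le_of_free {l : ℕ} [Fact l.Prime] {p : ℕ} (hn0 : 0 < p) (hpl : ¬ l ∣ p)
    (hexp : ∀ e : E, e ^ l = 1) (b : MulAut E) (hb : b ^ p = 1)
    (X : Subgroup (MulAut E)) (hcomm : ∀ x ∈ X, ∀ y ∈ X, x * y = y * x)
    (hnorm : ∀ x ∈ X, b * x * b⁻¹ ∈ X)
    (hXb : ∀ i, 0 < i → i < p → ∀ x ∈ X, b ^ i * x = x * b ^ i → x = 1)
    (hXl : ¬ l ∣ Nat.card X) (hXp : p.Coprime (Nat.card X)) (hX : ∀ e : E, (∀ x ∈ X, x e = e) → e = 1) :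
    Nat.card (MonoidHom.eqLocus b.toMonoidHom (MonoidHom.id E)) ^ p ≤ Nat.card E := by
  classical
  have hl : l.Prime := Fact.out
  let K := AlgebraicClosure (ZMod l)
  let Sp := Additive E →+ K
  have : FiniteDimensional K Sp :=
    FiniteDimensional.of_injective
      ({ toFun := fun f v => f v, map_add' := fun _ _ => rfl, map_smul' := fun _ _ => rfl } :
        Sp →ₗ[K] (Additive E → K))
      (fun _ _ h => AddMonoidHom.ext fun v => congrFun h v)
  let R : MulAut E →* Module.End K Sp :=
    { toFun := fun a =>
        { toFun := fun f => f.comp (MonoidHom.toAdditive a⁻¹.toMonoidHom)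
          map_add' := fun f g => rfl
          map_smul' := fun c f => rfl }
      map_one' := LinearMap.ext fun f => AddMonoidHom.ext fun v => rfl
      map_mul' := fun a a' => LinearMap.ext fun f => AddMonoidHom.ext fun v => by
        show f (MonoidHom.toAdditive (a * a')⁻¹.toMonoidHom v) = _
        rw [mul_inv_rev]
        rfl }
  let _ : CommGroup X := { (inferInstance : Group X) with mul_comm := fun a b => Subtype.ext (hcomm a a.2 b b.2) }
  let σ : MulAut X := MulEquiv.ofBijective
    ({ toFun := fun x => ⟨b * x * b⁻¹, hnorm x x.2⟩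
       map_one' := Subtype.ext (by simp)
       map_mul' := fun x y => Subtype.ext (by simp [mul_assoc]) } : X →* X)
    (Finite.injective_iff_bijective.mp fun x y h => Subtype.ext (by simpa using congrArg Subtype.val h))
  have hσapp : ∀ n (x : X), (((σ ^ n) x : X) : MulAut E) = b ^ n * x * (b ^ n)⁻¹ := by
    intro n
    induction n with
    | zero => intro x; simp
    | succ n ih =>
      intro x
      rw [pow_succ' σ, MulAut.mul_apply]
      show b * ((σ ^ n) x : X) * b⁻¹ = _
      rw [ih, pow_succ' b]
      simp [mul_assoc]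
  have hσ : σ ^ p = 1 := MulEquiv.ext fun x => Subtype.ext (by rw [hσapp, hb]; simp)
  let τ : X →* Module.End K Sp := R.comp X.subtype
  have hXK : (Nat.card X : K) ≠ 0 := fun h => hXl ((CharP.cast_eq_zero_iff K l _).mp h)
  have hone : proj τ 1 = 0 := by
    let _ := Fintype.ofFinite X
    have : ∑ x : X, τ x = 0 := by
      refine LinearMap.ext fun f => AddMonoidHom.ext fun v => ?_
      induction v using Additive.rec with
      | _ e =>
        simp only [LinearMap.sum_apply, AddMonoidHom.finsetSum_apply, LinearMap.zero_apply,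
          AddMonoidHom.zero_apply]
        erw [AddMonoidHom.finsetSum_apply]
        show ∑ x : X, f (Additive.ofMul ((x : MulAut E)⁻¹ e)) = 0
        rw [← map_sum, ← ofMul_prod, hX (∏ x : X, (x : MulAut E)⁻¹ e) fun y hy => ?_, ofMul_one, map_zero]
        rw [map_prod]
        refine Fintype.prod_equiv (Equiv.mulRight (⟨y, hy⟩⁻¹ : X)) _ _ fun x => ?_
        simp
    simp only [proj, MonoidHom.one_apply, inv_one, Units.val_one, one_smul, this, smul_zero]
  have h1 := fixed_bound_cyclic hn0 hXK τ (R b) (by rw [← map_pow, hb, map_one]) σ hσ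
    (fun x => by
      show R b * R (x : MulAut E) = R ((σ x : X) : MulAut E) * R b
      rw [← map_mul, ← map_mul]
      congr 1
      show b * _ = b * _ * b⁻¹ * b
      simp [mul_assoc])
    (fun i hi hip φ hφ => by
      refine MonoidHom.ext fun x => ?_
      let N : X := ∏ j ∈ Finset.range p, ((σ ^ i) ^ j) x
      have hN : N = 1 := by
        have hfixN : (σ ^ i) N = N := by
          show (σ ^ i) (∏ j ∈ Finset.range p, ((σ ^ i) ^ j) x) = _
          rw [map_prod]
          simp only [← MulAut.mul_apply, ← pow_succ']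
          exact prod_range_shift (fun n => ((σ ^ i) ^ n) x) p
            (by simp [← pow_mul, mul_comm i p, pow_mul σ p i, hσ])
        refine Subtype.ext (hXb i hi hip _ N.2 ?_)
        have := congrArg Subtype.val hfixN
        rw [hσapp] at this
        exact mul_inv_eq_iff_eq_mul.mp this
      have h3 : φ x ^ p = 1 := by
        have hi' : ∀ j, φ (((σ ^ i) ^ j) x) = φ x := by
          intro j
          induction j with
          | zero => rfl
          | succ j ih => rw [pow_succ' (σ ^ i), MulAut.mul_apply, hφ, ih]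
        have := congrArg φ hN
        simp only [N, map_prod, hi', Finset.prod_const, Finset.card_range, map_one] at this
        exact this
      have h4 : φ x ^ Nat.card X = 1 := by rw [← map_pow, pow_card_eq_one', map_one]
      rw [MonoidHom.one_apply, ← orderOf_eq_one_iff]
      exact Nat.eq_one_of_dvd_coprimes hXp
        (orderOf_dvd_of_pow_eq_one h3) (orderOf_dvd_of_pow_eq_one h4))
    hone
  -- the fixed space is dual to the fixed subgroup
  set C := MonoidHom.eqLocus b.toMonoidHom (MonoidHom.id E) with hC
  have hpg : IsPGroup l E := fun e => ⟨1, by rw [pow_one]; exact hexp e⟩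
  obtain ⟨n, hn⟩ := IsPGroup.iff_card.mp hpg
  obtain ⟨c, hc⟩ := IsPGroup.iff_card.mp (hpg.to_subgroup C)
  have hexpA : ∀ v : Additive E, l • v = 0 := fun v => by
    induction v using Additive.rec with
    | _ a => exact congrArg Additive.ofMul (hexp a)
  have hexpC : ∀ v : Additive C, l • v = 0 := fun v => by
    induction v using Additive.rec with
    | _ a => exact congrArg Additive.ofMul (Subtype.ext (hexp a) : a ^ l = 1)
  have : FiniteDimensional K (Additive C →+ K) :=
    FiniteDimensional.of_injective
      ({ toFun := fun f v => f v, map_add' := fun _ _ => rfl, map_smul' := fun _ _ => rfl } :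
        (Additive C →+ K) →ₗ[K] (Additive C → K))
      (fun _ _ h => AddMonoidHom.ext fun v => congrFun h v)
  have hSp : Module.finrank K Sp = n := finrank_hom (Additive E) hexpA hn
  have hCp : Module.finrank K (Additive C →+ K) = c := finrank_hom (Additive C) hexpC hc
  have hpk : (p : K) ≠ 0 := fun h => hpl ((CharP.cast_eq_zero_iff K l _).mp h)
  let P : E →* C :=
    { toFun := fun e => ⟨∏ i ∈ Finset.range p, (b ^ i) e, by
        show b _ = _
        rw [map_prod, MonoidHom.id_apply]
        show ∏ i ∈ Finset.range p, (b * b ^ i) e = _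
        simp_rw [← pow_succ']
        exact prod_range_shift (fun n => (b ^ n) e) p (by simp [hb])⟩
      map_one' := Subtype.ext (by simp)
      map_mul' := fun x y => Subtype.ext (by simp [Finset.prod_mul_distrib]) }
  have hdimge : c ≤ Module.finrank K (LinearMap.ker (R b - 1)) := by
    rw [← hCp]
    let G : (Additive C →+ K) →ₗ[K] Sp :=
      { toFun := fun f => f.comp (MonoidHom.toAdditive P)
        map_add' := fun f g => rfl
        map_smul' := fun a f => rfl }
    have hG : ∀ f, G f ∈ LinearMap.ker (R b - 1) := by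
      intro f
      rw [LinearMap.mem_ker, LinearMap.sub_apply, Module.End.one_apply, sub_eq_zero]
      refine AddMonoidHom.ext fun v => ?_
      induction v using Additive.rec with
      | _ e =>
        show f (Additive.ofMul (P (b⁻¹ e))) = f (Additive.ofMul (P e))
        congr 2
        have hh : ∀ x : E, P (b x) = P x := by
          intro x
          refine Subtype.ext ?_
          show ∏ i ∈ Finset.range p, (b ^ i) (b x) = ∏ i ∈ Finset.range p, (b ^ i) x
          simp only [← MulAut.mul_apply, ← pow_succ]
          exact prod_range_shift (fun n => (b ^ n) x) p (by simp [hb])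
        conv_rhs => rw [← MulAut.apply_inv_self E b e, hh]
    refine LinearMap.finrank_le_finrank_of_injective (f := G.codRestrict _ hG) ?_
    intro f g hfg
    refine AddMonoidHom.ext fun v => ?_
    induction v using Additive.rec with
    | _ x =>
      have h3 := congrArg (fun h : Sp => h (Additive.ofMul (x : E))) (congrArg Subtype.val hfg)
      have hPx : P (x : E) = x ^ p := by
        refine Subtype.ext ?_
        show ∏ i ∈ Finset.range p, (b ^ i) (x : E) = _
        have hi : ∀ i, (b ^ i) (x : E) = x := by
          intro i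
          induction i with
          | zero => rfl
          | succ i ih => rw [pow_succ', MulAut.mul_apply, ih]; exact x.2
        simp [hi]
      change f (Additive.ofMul (P x)) = g (Additive.ofMul (P x)) at h3
      rw [hPx, ofMul_pow, map_nsmul, map_nsmul, nsmul_eq_mul, nsmul_eq_mul] at h3
      exact mul_left_cancel₀ hpk h3
  rw [hSp] at h1
  rw [hc, hn, ← pow_mul]
  exact Nat.pow_le_pow_right hl.pos (by nlinarith [hdimge, h1])

end Group

end Cfsg.Agent.H3.Asch.RankModule
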