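import Cfsg.Agent.H3.Asch.ShapeTwoEnd
import Cfsg.Agent.H30.Asch.ShapeTwoFused

/-!
No element proper, lines of shape two: reduction of `ShapeTwoNone` to CASE II of
notes/helper26_asch_shape2.md.
-/

set_option autoImplicit false
set_option linter.unusedSectionVars false

namespace Cfsg.Agent.H3.Asch

open Subgroup MulAction
open Cfsg.Agent.H30.Asch

universe u v

variable {G : Type u} [Group G] {Ω : Type v} [MulAction G Ω] {D : Set G} [Finite G] [Finite Ω]

/-- The conclusion of CASE II: if an involution among the translations moves `u`, still all of the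
centraliser of `E` consists of translations. -/
def CaseTwo (G : Type u) [Group G] [Finite G] (Ω : Type v) [MulAction G Ω] [Finite Ω] (D : Set G) : Prop :=
  NPCtx G Ω D → ∀ (u v : G) (x y : Ω) (E Q A : Subgroup G), ShapeTwo D u v x y E Q A →
    MaxKer D u x →
    (∀ P : Subgroup G, IsPGroup 2 P → moveGroup u E ≤ P → P ≤ centralizer (E : Set G) →
      P = moveGroup u E) →
    (∃ z ∈ moveGroup u E, z * z = 1 ∧ ¬ Commute z u) →
    centralizer (E : Set G) ≤ moveGroup u E

/-- `ShapeTwoNone` from CASE II. -/
theorem shapeTwoNone_of_caseTwo (h2 : CaseTwo G Ω D) : ShapeTwoNone G Ω D := by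
  intro hc u v x y E Q A hq _ _ _ _ _ _ _ _ _
  obtain ⟨w, z, c, hwz, hmax⟩ := exists_maxKer hq
  obtain ⟨E', Q', A', S⟩ := exists_shapeTwo hc hwz
  refine S.false_of_centralizer_le hc ?_
  by_cases hno : ∀ t ∈ moveGroup w E', t * t = 1 → Commute t w
  · exact S.centralizer_le_move hc (fun P => S.eq_moveGroup hc hmax) hno
  · push Not at hno
    exact h2 hc w z x c E' Q' A' S hmax (fun P => S.eq_moveGroup hc hmax) hno

end Cfsg.Agent.H3.Asch
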