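import Cfsg.Agent.H6.Asch.LineFixed
import Cfsg.Agent.H29.Asch.UUULine

/-!
No element proper, lines of shape two (notes/helper26_asch_shape2.md, L0, L2 and the scalars): an element
centralising `E` and `u` and fixing the second point fixes the whole line, and every element of the
kernel of the line at `u` pairs the lines `fixedBy (u * a)` by an element of the torus.
-/

set_option autoImplicit false
set_option linter.style.haveILetI false
set_option linter.unusedSectionVars false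

namespace Cfsg.Agent.H3.Asch

open Subgroup MulAction
open Cfsg.Agent.H14.Asch
open Cfsg.Agent.H39
open Cfsg.Agent.H73.Asch (RankTwoBad Line2 HasLines2)
open Cfsg.Agent.H30.Asch
open scoped Pointwise

universe u v

variable {G : Type u} [Group G] {Ω : Type v} [MulAction G Ω] {D : Set G}

/-- The part of the fixing group of the fixed points of `u` centralising `u`. -/
def lineKer (Ω : Type v) [MulAction G Ω] (u : G) : Subgroup G :=
  fixingSubgroup G (fixedBy Ω u) ⊓ centralizer ({u} : Set G)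

theorem mem_lineKer {u g : G} :
    g ∈ lineKer Ω u ↔ g ∈ fixingSubgroup G (fixedBy Ω u) ∧ Commute g u := by
  rw [lineKer, mem_inf, mem_centralizer_singleton_iff]; rfl

/-- The elements centralising `E` which move `u` inside `u E`. -/
def moveGroup (u : G) (E : Subgroup G) : Subgroup G where
  carrier := {g | (∀ e ∈ E, Commute g e) ∧ ∃ a ∈ E, g * u * g⁻¹ = u * a}
  one_mem' := ⟨fun e _ => Commute.one_left e, 1, one_mem E, by simp⟩
  mul_mem' := by
    rintro g g' ⟨hg, a, ha, hgu⟩ ⟨hg', a', ha', hgu'⟩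
    refine ⟨fun e he => (hg e he).mul_left (hg' e he), a * a', mul_mem ha ha', ?_⟩
    calc g * g' * u * (g * g')⁻¹ = g * (g' * u * g'⁻¹) * g⁻¹ := by group
      _ = (g * u * g⁻¹) * (g * a' * g⁻¹) := by rw [hgu']; group
      _ = u * (a * a') := by rw [hgu, conj_eq_of_commute (hg a' ha'), mul_assoc]
  inv_mem' := by
    rintro g ⟨hg, a, ha, hgu⟩
    refine ⟨fun e he => (hg e he).inv_left, a⁻¹, inv_mem ha, ?_⟩
    have := conj_eq_of_commute (hg a⁻¹ (inv_mem ha)).inv_left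
    rw [inv_inv] at this
    calc g⁻¹ * u * g⁻¹⁻¹ = g⁻¹ * ((u * a) * a⁻¹) * g := by group
      _ = (g⁻¹ * (g * u * g⁻¹) * g) * (g⁻¹ * a⁻¹ * g) := by rw [hgu]; group
      _ = u * a⁻¹ := by rw [this]; group

/-- `α` pairs the lines of `u * a` with those of `k`. -/
def IsScalar (Ω : Type v) [MulAction G Ω] (u k : G) (E : Subgroup G) (α : G) : Prop :=
  ∀ a ∈ E, fixedBy Ω (k * (α * a * α⁻¹)) = fixedBy Ω (u * a)

/-- A line of shape two with no element proper. -/
structure ShapeTwo (D : Set G) (u v : G) (x y : Ω) (E Q A : Subgroup G) : Prop where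
  quad : Quad Ω D u v x y
  line : Line2 D u x E Q
  inj : ∀ g ∈ Q, ∀ k ∈ Q, g * g = k * k → g * k⁻¹ ∈ E
  cent : ∀ g ∈ Q, (∀ k ∈ Q, Commute g k) → g ∈ E
  ne : Q ≠ E
  A_le : A ≤ lineGroup D u ⊓ pairStab G x y
  A_norm : A ≤ normalizer (Q : Set G)
  A_cyclic : IsCyclic A
  A_trans : ∀ a ∈ E, ∀ b ∈ E, a ≠ 1 → b ≠ 1 → ∃ k ∈ A, k * a * k⁻¹ = b

variable [Finite G] [Finite Ω]

namespace ShapeTwo

variable {u v : G} {x y : Ω} {E Q A : Subgroup G} (S : ShapeTwo D u v x y E Q A) (hc : NPCtx G Ω D)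
include S

theorem uu : u * u = 1 := mul_self_of_orderOf_eq_two S.quad.bu.1

theorem A_smul {g : G} (hg : g ∈ A) : g • x = x ∧ g • y = y := mem_pairStab.mp (S.A_le hg).2

theorem A_commute {g : G} (hg : g ∈ A) : Commute g u := commute_of_mem_lineGroup (S.A_le hg).1

theorem A_comm {g g' : G} (hg : g ∈ A) (hg' : g' ∈ A) : Commute g g' :=
  PGroups.comm_of_isMulCommutative (haveI := S.A_cyclic; IsCyclic.isMulCommutative) hg hg'

theorem conj_Q {g q : G} (hg : g ∈ A) (hq : q ∈ Q) : g * q * g⁻¹ ∈ Q :=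
  (Subgroup.mem_normalizer_iff.mp (S.A_norm hg) q).mp hq

theorem E_comm {e e' : G} (he : e ∈ E) (he' : e' ∈ E) : Commute e e' :=
  S.line.central e he e' (S.line.E_le he')

theorem E_commute_u {e : G} (he : e ∈ E) : Commute e u := line2_commute S.line (S.line.E_le he)

theorem E_smul {e : G} (he : e ∈ E) : e • x = x := line2_smul S.line (S.line.E_le he)

include hc

theorem E_sq {e : G} (he : e ∈ E) : e * e = 1 := line2_mul_self S.line hc.crit he

theorem E_inv {e : G} (he : e ∈ E) : e⁻¹ = e := inv_eq_of_mul_eq_one_right (S.E_sq hc he)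

theorem E_fixed {e : G} (he : e ∈ E) {c : Ω} (hcx : c ≠ x) (hec : e • c = c) : e = 1 := by
  by_contra he1
  exact hcx (hc.crit.eq_of_fixed (line2_member S.line he he1).1 hec (S.E_smul he))

theorem mem_E {g : G} : g ∈ E ↔ g = 1 ∨ g ∈ swappers D x x :=
  mem_E_iff hc.crit hc.lines hc.two hc.same S.quad S.quad.hx.1 S.line

theorem conj_mem_E {g e : G} (hg : g • x = x) (he : e ∈ E) : g * e * g⁻¹ ∈ E := by
  rcases (S.mem_E hc).mp he with rfl | ⟨heD, hex⟩
  · simp
  · refine (S.mem_E hc).mpr (Or.inr ⟨hc.crit.conj_mem heD g, ?_⟩)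
    rw [mul_smul, mul_smul, inv_smul_eq_iff.mpr hg.symm, hex, hg]

/-- The elements centralising `E` fix `x`. -/
theorem smul_of_centE {g : G} (hg : ∀ e ∈ E, Commute g e) : g • x = x := by
  obtain ⟨e, he, he1, -⟩ := line2_exists_ne S.line (a := 1)
  exact hc.crit.fix_of_commute (line2_member S.line he he1).1 (hg e he) (S.E_smul he)

theorem v_fixing : v ∈ fixingSubgroup G (fixedBy Ω u) :=
  mem_fixing_iff.mpr fun p hp => (Set.ext_iff.mp (hc.same u v x y S.quad) p).mp hp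

theorem u_mem_ker : u ∈ lineKer Ω u :=
  mem_lineKer.mpr ⟨mem_fixing_iff.mpr fun _ hp => hp, Commute.refl u⟩

theorem v_mem_ker : v ∈ lineKer Ω u := mem_lineKer.mpr ⟨S.v_fixing hc, S.quad.comm.symm⟩

theorem L_commute_fixing {l k : G} (hl : l ∈ lineGroup D u) (hk : k ∈ fixingSubgroup G (fixedBy Ω u)) :
    Commute l k :=
  commute_fixing_of_lineGroup hc.crit hc.lines hc.two hc.same S.quad hl hk

theorem ker_commute_Q {k q : G} (hk : k ∈ lineKer Ω u) (hq : q ∈ Q) : Commute q k :=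
  S.L_commute_fixing hc (S.line.Q_le hq).1 (mem_lineKer.mp hk).1

theorem ker_commute_A {k g : G} (hk : k ∈ lineKer Ω u) (hg : g ∈ A) : Commute g k :=
  S.L_commute_fixing hc (S.A_le hg).1 (mem_lineKer.mp hk).1

theorem ker_commute_E {k e : G} (hk : k ∈ lineKer Ω u) (he : e ∈ E) : Commute e k :=
  S.ker_commute_Q hc hk (S.line.E_le he)

omit hc in
theorem ker_smul {k : G} (hk : k ∈ lineKer Ω u) : k • x = x ∧ k • y = y :=
  ⟨mem_fixing_iff.mp (mem_lineKer.mp hk).1 x S.quad.hx.1,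
    mem_fixing_iff.mp (mem_lineKer.mp hk).1 y S.quad.hy.1⟩

omit hc in
/-- `Q` meets the kernel trivially. -/
theorem eq_one_of_mem_Q_ker {q : G} (hq : q ∈ Q) (hk : q ∈ lineKer Ω u) : q = 1 :=
  S.line.free q hq y S.quad.hy.1 S.quad.ne.symm (S.ker_smul hk).2

theorem decomp_unique {q q' k k' : G} (hq : q ∈ Q) (hq' : q' ∈ Q) (hk : k ∈ lineKer Ω u)
    (hk' : k' ∈ lineKer Ω u) (e : q * k = q' * k') : q = q' ∧ k = k' := by
  have h1 : q'⁻¹ * q = k' * k⁻¹ := by
    rw [eq_mul_inv_iff_mul_eq, mul_assoc, e, inv_mul_cancel_left]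
  have h2 : q'⁻¹ * q = 1 :=
    S.eq_one_of_mem_Q_ker (mul_mem (inv_mem hq') hq) (h1 ▸ mul_mem hk' (inv_mem hk))
  obtain rfl := (inv_mul_eq_one.mp h2)
  exact ⟨rfl, mul_left_cancel e⟩

/-- Squaring gives equal cosets of `E`: transitivity of the torus outside `E`. -/
theorem exists_torus_coset {q q' : G} (hq : q ∈ Q) (hq' : q' ∈ Q) (hqE : q ∉ E) (hq'E : q' ∉ E) :
    ∃ β ∈ A, ∃ e ∈ E, q' = e * (β * q * β⁻¹) := by
  have hne : ∀ {r : G}, r ∈ Q → r ∉ E → r * r ≠ 1 := fun {r} hr hrE hrr => hrE (by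
    by_cases hr1 : r = 1
    · exact hr1 ▸ one_mem E
    · exact S.line.omega r hr (orderOf_eq_two_of_mul_self hrr hr1))
  obtain ⟨β, hβ, e⟩ := S.A_trans _ (S.line.sq_mem q hq) _ (S.line.sq_mem q' hq') (hne hq hqE) (hne hq' hq'E)
  refine ⟨β, hβ, q' * (β * q * β⁻¹)⁻¹, S.inj q' hq' _ (S.conj_Q hβ hq) ?_, by group⟩
  rw [← e]; group

/-- An equivariant homomorphism of `Q / E` into `E` vanishes. -/
theorem hom_eq_one {f : G → G} (hf : ∀ q ∈ Q, f q ∈ E)
    (hmul : ∀ q ∈ Q, ∀ q' ∈ Q, f (q * q') = f q * f q') (hE : ∀ e ∈ E, f e = 1)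
    (hA : ∀ β ∈ A, ∀ q ∈ Q, f (β * q * β⁻¹) = β * f q * β⁻¹) : ∀ q ∈ Q, f q = 1 := by
  by_contra hcon
  push Not at hcon
  obtain ⟨q₀, hq₀, hne⟩ := hcon
  have hq₀E : q₀ ∉ E := fun h => hne (hE q₀ h)
  obtain ⟨γ, hγ, hγa⟩ := S.A_trans _ (hf q₀ hq₀) _ (S.line.sq_mem q₀ hq₀) hne (fun h => hq₀E (by
    by_cases h1 : q₀ = 1
    · exact h1 ▸ one_mem E
    · exact S.line.omega q₀ hq₀ (orderOf_eq_two_of_mul_self h h1)))
  have hsq : ∀ q ∈ Q, q * q = γ * f q * γ⁻¹ := by
    intro q hq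
    by_cases hqE : q ∈ E
    · rw [hE q hqE, S.E_sq hc hqE]; group
    obtain ⟨β, hβ, e, he, rfl⟩ := S.exists_torus_coset hc hq₀ hq hq₀E hqE
    have hβq := S.conj_Q hβ hq₀
    rw [hmul e (S.line.E_le he) _ hβq, hE e he, one_mul, hA β hβ q₀ hq₀]
    calc e * (β * q₀ * β⁻¹) * (e * (β * q₀ * β⁻¹))
        = e * e * (β * q₀ * β⁻¹ * (β * q₀ * β⁻¹)) := by
          rw [mul_assoc e, ← mul_assoc (β * q₀ * β⁻¹) e, ← (S.line.central e he _ hβq).eq]; group
      _ = β * (q₀ * q₀) * β⁻¹ := by rw [S.E_sq hc he]; group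
      _ = (β * γ) * f q₀ * (β * γ)⁻¹ := by rw [← hγa]; group
      _ = _ := by rw [(S.A_comm hβ hγ).eq]; group
  refine hq₀E (S.cent q₀ hq₀ fun k hk => ?_)
  have h1 := hsq (q₀ * k) (mul_mem hq₀ hk)
  rw [hmul q₀ hq₀ k hk, show γ * (f q₀ * f k) * γ⁻¹ = (γ * f q₀ * γ⁻¹) * (γ * f k * γ⁻¹) by group,
    ← hsq q₀ hq₀, ← hsq k hk, mul_assoc q₀ k (q₀ * k), mul_assoc q₀ q₀ (k * k)] at h1
  have h2 := mul_left_cancel h1
  rw [← mul_assoc, ← mul_assoc] at h2
  exact (mul_right_cancel h2).symm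

/-- An element centralising `E` and normalising `Q` moves `Q` inside its cosets of `E`. -/
theorem conj_mul_inv_mem {g q : G} (hgE : ∀ e ∈ E, Commute g e) (hq : q ∈ Q)
    (hgq : g * q * g⁻¹ ∈ Q) : g * q * g⁻¹ * q⁻¹ ∈ E := by
  refine S.inj _ hgq q hq ?_
  rw [show g * q * g⁻¹ * (g * q * g⁻¹) = g * (q * q) * g⁻¹ by group,
    conj_eq_of_commute (hgE _ (S.line.sq_mem q hq))]

/-- An element of odd order centralising `E` and normalising `Q` centralises `Q`. -/
theorem commute_Q_of_odd {g : G} (hodd : Odd (orderOf g)) (hgE : ∀ e ∈ E, Commute g e)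
    (hgQ : ∀ q ∈ Q, g * q * g⁻¹ ∈ Q) {q : G} (hq : q ∈ Q) : Commute g q := by
  set e := g * q * g⁻¹ * q⁻¹ with he
  have heE : e ∈ E := S.conj_mul_inv_mem hc hgE hq (hgQ q hq)
  have hpow : ∀ n : ℕ, g ^ n * q * (g ^ n)⁻¹ = e ^ n * q := by
    intro n
    induction n with
    | zero => simp
    | succ n ih =>
      calc g ^ (n + 1) * q * (g ^ (n + 1))⁻¹ = g * (g ^ n * q * (g ^ n)⁻¹) * g⁻¹ := by
            rw [pow_succ']; group
        _ = (g * e ^ n * g⁻¹) * (g * q * g⁻¹) := by rw [ih]; group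
        _ = e ^ n * (e * q) := by
            rw [conj_eq_of_commute (hgE _ (pow_mem heE n)), he, inv_mul_cancel_right]
        _ = e ^ (n + 1) * q := by rw [pow_succ, mul_assoc (e ^ n) e q]
  have h1 := hpow (orderOf g)
  rw [pow_orderOf_eq_one, one_mul, inv_one, mul_one] at h1
  obtain ⟨m, hm⟩ := hodd
  rw [hm, pow_succ, pow_mul, pow_two, S.E_sq hc heE, one_pow, one_mul] at h1
  exact commute_of_conj_eq (by
    calc g * q * g⁻¹ = e * q := by rw [he]; group
      _ = q := h1.symm)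

/-- An element centralising `E` and `u` and fixing `y` fixes the fixed points of `u`. -/
theorem mem_ker_of_fix {g : G} (hgE : ∀ e ∈ E, Commute g e) (hgu : Commute g u) (hgy : g • y = y) :
    g ∈ lineKer Ω u := by
  have h := hc.crit
  have hgx := S.smul_of_centE hc hgE
  have hnorm : ∀ {g' : G}, Commute g' u → g' • x = x → ∀ q ∈ Q, g' * q * g'⁻¹ ∈ Q := fun h1 h2 =>
    H6.Asch.lineNormal hc u v x y E Q S.quad S.line _ h1 h2
  have hQg := hnorm hgu hgx
  have hf : ∀ q ∈ Q, g * q * g⁻¹ * q⁻¹ = 1 := by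
    refine S.hom_eq_one hc (f := fun q => g * q * g⁻¹ * q⁻¹)
      (fun q hq => S.conj_mul_inv_mem hc hgE hq (hQg q hq)) (fun q hq q' hq' => ?_) (fun e he => ?_)
      fun β hβ q hq => ?_
    · set f' := g * q' * g⁻¹ * q'⁻¹ with hf'
      have hf'E : f' ∈ E := S.conj_mul_inv_mem hc hgE hq' (hQg q' hq')
      show g * (q * q') * g⁻¹ * (q * q')⁻¹ = (g * q * g⁻¹ * q⁻¹) * f'
      calc g * (q * q') * g⁻¹ * (q * q')⁻¹ = (g * q * g⁻¹) * f' * q⁻¹ := by rw [hf']; group
        _ = (g * q * g⁻¹) * (f' * q⁻¹) := mul_assoc _ _ _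
        _ = _ := by rw [(S.line.central f' hf'E _ (inv_mem hq)).eq, ← mul_assoc]
    · show g * e * g⁻¹ * e⁻¹ = 1
      rw [conj_eq_of_commute (hgE e he), mul_inv_cancel]
    · -- `g` and `β` commute up to an element of the two-point stabiliser of the line
      obtain ⟨hβx, hβy⟩ := S.A_smul hβ
      have hβu := S.A_commute hβ
      set c := β⁻¹ * g⁻¹ * β * g with hc'
      have hcL : c ∈ lineGroup D u ⊓ pairStab G x y := by
        refine ⟨?_, ?_⟩
        · have := conj_mem_lineGroup_of_commute h hgu.inv_left (S.A_le hβ).1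
          rw [inv_inv] at this
          rw [hc', show β⁻¹ * g⁻¹ * β * g = β⁻¹ * (g⁻¹ * β * g) by group]
          exact Subgroup.mul_mem _ (Subgroup.inv_mem _ (S.A_le hβ).1) this
        · refine mem_pairStab.mpr ⟨?_, ?_⟩ <;>
          simp only [hc', mul_smul, hgx, hgy, hβx, hβy, inv_smul_eq_iff]
      have hcodd : Odd (orderOf c) :=
        (H29.Asch.line2_odd_card S.line h S.quad.hy.1 S.quad.ne.symm).of_dvd_nat
          (Subgroup.orderOf_dvd_natCard _ hcL)
      have hcE : ∀ e ∈ E, Commute c e := fun e he => by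
        have h1 : Commute g⁻¹ (β * e * β⁻¹) := (hgE _ (S.conj_mem_E hc hβx he)).inv_left
        have h2 := commute_conj h1 β⁻¹
        rw [show β⁻¹ * (β * e * β⁻¹) * β⁻¹⁻¹ = e by group, inv_inv] at h2
        exact h2.mul_left (hgE e he)
      have hcx : c • x = x := (mem_pairStab.mp hcL.2).1
      have hcq := S.commute_Q_of_odd hc hcodd hcE
        (hnorm (commute_of_mem_lineGroup hcL.1) hcx) hq
      have hgβ : g * β = β * g * c⁻¹ := by rw [hc']; group
      show g * (β * q * β⁻¹) * g⁻¹ * (β * q * β⁻¹)⁻¹ = β * (g * q * g⁻¹ * q⁻¹) * β⁻¹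
      calc g * (β * q * β⁻¹) * g⁻¹ * (β * q * β⁻¹)⁻¹
          = (g * β) * q * (g * β)⁻¹ * (β * q * β⁻¹)⁻¹ := by group
        _ = β * g * (c⁻¹ * q * c⁻¹⁻¹) * g⁻¹ * β⁻¹ * (β * q * β⁻¹)⁻¹ := by rw [hgβ]; group
        _ = _ := by rw [conj_eq_of_commute hcq.inv_left]; group
  refine mem_lineKer.mpr ⟨mem_fixing_iff.mpr fun p hp => ?_, hgu⟩
  by_cases hpx : p = x
  · rw [hpx, hgx]
  obtain ⟨q, hq, rfl⟩ := S.line.trans y p S.quad.hy.1 hp S.quad.ne.symm hpx
  rw [← mul_smul, mul_inv_eq_iff_eq_mul.mp (mul_inv_eq_one.mp (hf q hq)), mul_smul, hgy]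

/-- An element centralising `E` and `u` is in `Q` times the kernel. -/
theorem mem_cent {g : G} (hgE : ∀ e ∈ E, Commute g e) (hgu : Commute g u) :
    ∃ q ∈ Q, ∃ k ∈ lineKer Ω u, g = q * k := by
  have hgx := S.smul_of_centE hc hgE
  obtain ⟨q, hq, hqy⟩ := S.line.trans y (g • y) S.quad.hy.1 (smul_fixed_of_commute hgu S.quad.hy.1)
    S.quad.ne.symm (fun e => S.quad.ne.symm (MulAction.injective g (e.trans hgx.symm)))
  refine ⟨q, hq, q⁻¹ * g, S.mem_ker_of_fix hc ?_ ?_ ?_, by group⟩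
  · exact fun e he => (S.line.central e he q hq).symm.inv_left.mul_left (hgE e he)
  · exact (line2_commute S.line hq).inv_left.mul_left hgu
  · rw [mul_smul, ← hqy, inv_smul_smul]

/-- An involution centralising `E` and `u` is in `E` times the kernel. -/
theorem mem_cent_invol {g : G} (hgE : ∀ e ∈ E, Commute g e) (hgu : Commute g u) (hg : g * g = 1) :
    ∃ e ∈ E, ∃ k ∈ lineKer Ω u, k * k = 1 ∧ g = e * k := by
  obtain ⟨q, hq, k, hk, rfl⟩ := S.mem_cent hc hgE hgu
  have h1 : (q * q) * (k * k) = 1 := by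
    rw [← hg, mul_assoc q k (q * k), ← mul_assoc k q k, ← (S.ker_commute_Q hc hk hq).eq]; group
  obtain ⟨h2, h3⟩ := S.decomp_unique hc (mul_mem hq hq) (one_mem Q) (mul_mem hk hk) (one_mem _)
    (h1.trans (one_mul 1).symm)
  refine ⟨q, ?_, k, hk, h3, rfl⟩
  by_cases hq1 : q = 1
  · exact hq1 ▸ one_mem E
  · exact S.line.omega q hq (orderOf_eq_two_of_mul_self h2 hq1)

omit hc in
theorem A_le_stab : A ≤ lineGroup D u ⊓ stabilizer G x :=
  fun g hg => ⟨(S.A_le hg).1, mem_stabilizer_iff.mpr (S.A_smul hg).1⟩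

theorem conj_A_E {g e : G} (hg : g ∈ A) (he : e ∈ E) : g * e * g⁻¹ ∈ E :=
  S.conj_mem_E hc (S.A_smul hg).1 he

/-- An element of the fixing group fixing the points of one line `u * a` is trivial. -/
theorem eq_one_of_fix_line {k a : G} (hk : k ∈ fixingSubgroup G (fixedBy Ω u)) (ha : a ∈ E)
    (ha1 : a ≠ 1) (hfix : ∀ c : Ω, (u * a) • c = c → k • c = c) : k = 1 := by
  have h := hc.crit
  haveI := h.faithful
  refine FaithfulSMul.eq_of_smul_eq_smul (α := Ω) fun c => ?_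
  rw [one_smul]
  by_cases huc : u • c = c
  · exact mem_fixing_iff.mp hk c huc
  obtain ⟨m, b', g, hcov⟩ := hc.exists_cover_self S.quad huc
  have ham := line2_member S.line ha ha1
  obtain ⟨l, hl, hla⟩ := (h.line S.quad.bu.1 S.quad.ne S.quad.hx.1 S.quad.hy.1).exists_conj
    (mem_lineGroup ham.1 ham.2.1) (mem_lineGroup hcov.mem_a.1 hcov.mem_a.2.1) (h.inv ham.1)
    (h.inv hcov.mem_a.1)
  have hlu : Commute l u := commute_of_mem_lineGroup hl
  have h1 : (u * a) • l⁻¹ • c = l⁻¹ • c := by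
    have h2 := H73.Bender.conj_smul_of_smul (g := l⁻¹) hcov.fix_c
    rwa [← hla, show l⁻¹ * (u * (l * a * l⁻¹)) * l⁻¹⁻¹ = (l⁻¹ * u * l⁻¹⁻¹) * a by group,
      conj_eq_of_commute hlu.inv_left] at h2
  have h3 := congrArg (l • ·) (hfix _ h1)
  rwa [← mul_smul, (S.L_commute_fixing hc hl hk).eq, mul_smul, smul_inv_smul] at h3

/-- A second point of the line of `u * a`. -/
theorem exists_line_point {a : G} (ha : a ∈ E) : ∃ c : Ω, c ≠ x ∧ (u * a) • c = c := by
  by_cases ha1 : a = 1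
  · exact ⟨y, S.quad.ne.symm, by rw [ha1, mul_one, S.quad.hy.1]⟩
  obtain ⟨c, hcu, hca⟩ := hc.exists_perp_point S.quad S.line ha ha1
  exact ⟨c, fun e => hcu (e ▸ S.quad.hx.1), hca⟩

theorem pair_unique {k a b b' : G} (ha : a ∈ E) (hb : b ∈ E) (hb' : b' ∈ E)
    (h1 : fixedBy Ω (k * b) = fixedBy Ω (u * a)) (h2 : fixedBy Ω (k * b') = fixedBy Ω (u * a)) :
    b = b' := by
  obtain ⟨c, hcx, hca⟩ := S.exists_line_point hc ha
  have e1 : (k * b) • c = c := (Set.ext_iff.mp h1 c).mpr hca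
  have e2 : (k * b') • c = c := (Set.ext_iff.mp h2 c).mpr hca
  rw [mul_smul] at e1 e2
  have h3 := S.E_fixed hc (mul_mem (inv_mem hb') hb) hcx
    (by rw [mul_smul, MulAction.injective k (e1.trans e2.symm), inv_smul_smul])
  exact (inv_mul_eq_one.mp h3).symm

/-- Two involutions of the kernel pairing one line alike are equal. -/
theorem pair_inj {k k' a b : G} (hk : k ∈ lineKer Ω u) (hk' : k' ∈ lineKer Ω u) (hk2' : k' * k' = 1)
    (ha : a ∈ E) (ha1 : a ≠ 1) (hb : b ∈ E) (h1 : fixedBy Ω (k * b) = fixedBy Ω (u * a))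
    (h2 : fixedBy Ω (k' * b) = fixedBy Ω (u * a)) : k = k' := by
  have h3 : k * k' = 1 := by
    refine S.eq_one_of_fix_line hc (mul_mem (mem_lineKer.mp hk).1 (mem_lineKer.mp hk').1) ha ha1
      fun c hca => ?_
    have e1 : (k * b) • c = c := (Set.ext_iff.mp h1 c).mpr hca
    have e2 : (k' * b) • c = c := (Set.ext_iff.mp h2 c).mpr hca
    have e3 : (k * b * (k' * b)) • c = c := by rw [mul_smul, e2, e1]
    rwa [show k * b * (k' * b) = k * (b * k') * b by group, (S.ker_commute_E hc hk' hb).eq,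
      show k * (k' * b) * b = k * k' * (b * b) by group, S.E_sq hc hb, mul_one] at e3
  rw [eq_inv_of_mul_eq_one_left h3, inv_eq_of_mul_eq_one_left hk2']

/-- Every involution of the kernel has a scalar in the torus. -/
theorem exists_isScalar {k : G} (hk : k ∈ lineKer Ω u) (hk2 : k * k = 1) (hk1 : k ≠ 1) :
    ∃ α ∈ A, IsScalar Ω u k E α := by
  by_cases hku : k = u
  · exact ⟨1, one_mem A, fun a _ => by rw [hku]; simp⟩
  have hq : Quad Ω D u k x y := quad_of_pair hc.two S.quad.bu.1 (orderOf_eq_two_of_mul_self hk2 hk1)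
    (mem_lineKer.mp hk).2.symm (Ne.symm hku) S.quad.ne ⟨S.quad.hx.1, (S.ker_smul hk).1⟩
    ⟨S.quad.hy.1, (S.ker_smul hk).2⟩
  obtain ⟨α, hα, -, hval⟩ := hc.exists_scalar hq S.line S.A_le_stab
    (haveI := S.A_cyclic; IsCyclic.isMulCommutative) (fun g hg e he => S.conj_A_E hc hg he) S.A_trans
  refine ⟨α, hα, fun a ha => ?_⟩
  by_cases ha1 : a = 1
  · rw [ha1]; simpa using (hc.same u k x y hq).symm
  obtain ⟨c, hcu, hca⟩ := hc.exists_perp_point S.quad S.line ha ha1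
  obtain ⟨b, hb, hbc, hbf⟩ := hc.exists_partner hq S.line ha hcu hca
  have h1 := hval a ha ha1 c hcu hca
  have hcx : c ≠ x := fun e => hcu (e ▸ S.quad.hx.1)
  rw [mul_smul] at h1 hbc
  have h2 := S.E_fixed hc (mul_mem (inv_mem hb) (S.conj_A_E hc hα ha)) hcx
    (by rw [mul_smul, MulAction.injective k (h1.trans hbc.symm), inv_smul_smul])
  rw [← inv_mul_eq_one.mp h2]
  exact hbf

omit hc in
theorem isScalar_u : IsScalar Ω u u E 1 := fun a _ => by simp

/-- The value of a scalar at the trivial element. -/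
theorem fixedBy_ker {k : G} {α : G} (hs : IsScalar Ω u k E α) : fixedBy Ω k = fixedBy Ω u := by
  simpa using hs 1 (one_mem E)

end ShapeTwo

end Cfsg.Agent.H3.Asch
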