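import Cfsg.Agent.H3.Asch.ShapeTwoMax

/-!
No element proper, lines of shape two (notes/helper26_asch_shape2.md, END): if the centraliser of `E` is the
group of translations, the conjugates of the kernel fixing `x` are too few for the count.
-/

set_option autoImplicit false
set_option linter.style.haveILetI false
set_option linter.unusedSectionVars false

namespace Cfsg.Agent.H3.Asch

open Subgroup MulAction
open Cfsg.Agent.H14.Asch
open Cfsg.Agent.H39
open Cfsg.Agent.H30.Asch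
open Cfsg.Agent.H26.Asch (conjNonOne false_of_few_conj)

universe u v

variable {G : Type u} [Group G] {Ω : Type v} [MulAction G Ω] {D : Set G} [Finite G] [Finite Ω]

theorem card_ne_one {H : Type*} [Group H] [Finite H] :
    Nat.card {a : H // a ≠ 1} = Nat.card H - 1 := by
  show Nat.card ↥({1}ᶜ : Set H) = _
  rw [Nat.card_coe_set_eq, Set.ncard_compl, Set.ncard_singleton]

namespace ShapeTwo

variable {u v : G} {x y : Ω} {E Q A : Subgroup G} (S : ShapeTwo D u v x y E Q A) (hc : NPCtx G Ω D)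
include S hc

/-- A conjugate of a kernel element fixing `x` centralises `E` and fixes a second point. -/
theorem commute_E_of_conjNonOne {w : G} (hw : w ∈ conjNonOne (lineKer Ω u)) (hwx : w • x = x) :
    (∀ e ∈ E, Commute w e) ∧ w * w = 1 ∧ w ≠ 1 ∧ ∃ c : Ω, c ≠ x ∧ w • c = c := by
  obtain ⟨g, k, hk, hk1, rfl⟩ := hw
  have hk2 := S.ker_mul_self hc hk
  obtain ⟨z₀, hz₀, hz₀1, hz₀k⟩ : ∃ z₀ ∈ lineKer Ω u, z₀ ≠ 1 ∧ z₀ ≠ k := by
    by_cases h : k = u
    · exact ⟨v, S.v_mem_ker hc, ne_one_of_orderOf_eq_two S.quad.bv.1, fun e => by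
        have := S.quad.bw.1
        rw [e, h, S.uu, orderOf_one] at this
        omega⟩
    · exact ⟨u, S.u_mem_ker hc, S.u_ne, fun e => h e.symm⟩
  have hq : Quad Ω D k z₀ x y := quad_of_pair hc.two (orderOf_eq_two_of_mul_self hk2 hk1)
    (orderOf_eq_two_of_mul_self (S.ker_mul_self hc hz₀) hz₀1) (S.ker_comm hc hk hz₀) hz₀k.symm
    S.quad.ne ⟨(S.ker_smul hk).1, (S.ker_smul hz₀).1⟩ ⟨(S.ker_smul hk).2, (S.ker_smul hz₀).2⟩
  set w := g * k * g⁻¹ with hw
  set z := g * z₀ * g⁻¹ with hz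
  have hwz : Quad Ω D w z (g • x) (g • y) := quad_of_pair hc.two
    (by rw [orderOf_conj, hq.bu.1]) (by rw [orderOf_conj, hq.bv.1])
    (commute_conj hq.comm g) (fun e => hz₀k.symm (mul_left_cancel (mul_right_cancel e)))
    (fun e => hq.ne (MulAction.injective g e))
    ⟨H73.Bender.conj_smul_of_smul hq.hx.1, H73.Bender.conj_smul_of_smul hq.hx.2⟩
    ⟨H73.Bender.conj_smul_of_smul hq.hy.1, H73.Bender.conj_smul_of_smul hq.hy.2⟩
  have hzx : z • x = x := (Set.ext_iff.mp (hc.same w z _ _ hwz) x).mp hwx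
  obtain ⟨c, hcx, hwc, hzc⟩ : ∃ c : Ω, c ≠ x ∧ w • c = c ∧ z • c = c := by
    by_cases h : g • x = x
    · exact ⟨g • y, fun e => hwz.ne (h.trans e.symm), hwz.hy⟩
    · exact ⟨g • x, h, hwz.hx⟩
  have hwq : Quad Ω D w z x c :=
    ⟨hwz.bu, hwz.bv, hwz.bw, hwz.comm, hcx.symm, ⟨hwx, hzx⟩, ⟨hwc, hzc⟩⟩
  obtain ⟨E', Q', A', S'⟩ := exists_shapeTwo hc hwq
  have hE := S.E_eq hc S'
  subst hE
  exact ⟨fun e he => (S'.E_commute_u he).symm, mul_self_of_orderOf_eq_two hwz.bu.1,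
    ne_one_of_orderOf_eq_two hwz.bu.1, c, hcx, hwc⟩

/-- **END**: the centraliser of `E` is not the group of translations. -/
theorem false_of_centralizer_le (hX : centralizer (E : Set G) ≤ moveGroup u E) : False := by
  classical
  refine false_of_few_conj hc S.quad S.line (S.card_Q hc) (S.eight_le hc) (R := lineKer Ω u)
    inf_le_left (fun k hk => S.ker_mul_self hc hk) (S.four_le_ker hc) ?_
  set W := {w : G | w ∈ conjNonOne (lineKer Ω u) ∧ w • x = x}
  choose t ht htu using fun a : E => S.exists_move hc a.2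
  have hkey : ∀ w : W, ∃ o : (E × {k : lineKer Ω u // k ≠ 1}) ⊕ ({a : E // a ≠ 1} × Q),
      Sum.elim (fun p => (w : G) = p.1 * (p.2.1 : G))
        (fun p => ∃ k ∈ lineKer Ω u, (w : G) = t p.1 * p.2 * k) o := by
    rintro ⟨w, hw, hwx⟩
    obtain ⟨hwE, hw2, hw1, c, hcx, hwc⟩ := S.commute_E_of_conjNonOne hc hw hwx
    have hwT := hX (mem_centralizer_iff.mpr fun e he => (hwE e he).symm.eq)
    obtain ⟨-, a, ha, hwu⟩ := hwT
    by_cases ha1 : a = 1
    · rw [ha1, mul_one] at hwu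
      obtain ⟨e, he, k, hk, -, rfl⟩ := S.mem_cent_invol hc hwE (commute_of_conj_eq hwu) hw2
      refine ⟨Sum.inl (⟨e, he⟩, ⟨⟨k, hk⟩, fun e1 => ?_⟩), rfl⟩
      have e2 : k = 1 := congrArg Subtype.val e1
      rw [e2, mul_one] at hwc hw1
      exact hw1 (S.E_fixed hc he hcx hwc)
    · have h1 : ∀ e ∈ E, Commute ((t ⟨a, ha⟩)⁻¹ * w) e := fun e he =>
        ((ht ⟨a, ha⟩).1 e he).inv_left.mul_left (hwE e he)
      have h2 : Commute ((t ⟨a, ha⟩)⁻¹ * w) u := by
        apply commute_of_conj_eq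
        calc (t ⟨a, ha⟩)⁻¹ * w * u * ((t ⟨a, ha⟩)⁻¹ * w)⁻¹
            = (t ⟨a, ha⟩)⁻¹ * (w * u * w⁻¹) * t ⟨a, ha⟩ := by group
          _ = (t ⟨a, ha⟩)⁻¹ * (t ⟨a, ha⟩ * u * (t ⟨a, ha⟩)⁻¹) * t ⟨a, ha⟩ := by
            rw [hwu, htu ⟨a, ha⟩]
          _ = u := by group
      obtain ⟨q, hq, k, hk, e⟩ := S.mem_cent hc h1 h2
      exact ⟨Sum.inr (⟨⟨a, ha⟩, fun e1 => ha1 (congrArg Subtype.val e1)⟩, ⟨q, hq⟩), k, hk, by
        show w = t ⟨a, ha⟩ * q * k
        rw [mul_assoc, ← e, mul_inv_cancel_left]⟩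
  choose o ho using hkey
  refine (Nat.card_le_card_of_injective o fun w w' e => ?_).trans ?_
  · have h1 := ho w
    have h2 := ho w'
    rw [← e] at h2
    rcases hsel : o w with p | p
    · rw [hsel] at h1 h2
      exact Subtype.ext (h1.trans h2.symm)
    · rw [hsel] at h1 h2
      obtain ⟨k, hk, e1⟩ := h1
      obtain ⟨k', hk', e2⟩ := h2
      obtain ⟨hwE, hw2, -, -⟩ := S.commute_E_of_conjNonOne hc w.2.1 w.2.2
      obtain ⟨-, hw2', -, -⟩ := S.commute_E_of_conjNonOne hc w'.2.1 w'.2.2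
      have hd : (w' : G) = w * (k⁻¹ * k') := by rw [e1, e2]; group
      have hkm : k⁻¹ * k' ∈ lineKer Ω u := mul_mem (inv_mem hk) hk'
      by_cases hk1 : k⁻¹ * k' = 1
      · exact Subtype.ext (by rw [hd, hk1, mul_one])
      exfalso
      have hwT := hX (mem_centralizer_iff.mpr fun x hx => (hwE x hx).symm.eq)
      have hwu : (w : G) * u * (w : G)⁻¹ = u * (p.1 : E) := by
        rw [e1, show t p.1 * p.2 * k * u * (t p.1 * p.2 * k)⁻¹ =
          t p.1 * ((p.2 : G) * k * u * ((p.2 : G) * k)⁻¹) * (t p.1)⁻¹ by group,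
          conj_eq_of_commute ((line2_commute S.line p.2.2).mul_left (mem_lineKer.mp hk).2), htu]
      obtain ⟨α, hα, hs⟩ := S.exists_scalar_ker hc hkm hk1
      have h3 := S.conj_ker hc hwT (p.1 : E).2 hwu hkm hk1 hα hs
      rw [hd] at hw2'
      have h4 : (w : G) * (k⁻¹ * k') * (w : G)⁻¹ = k⁻¹ * k' := by
        rw [inv_eq_of_mul_eq_one_right hw2]
        calc (w : G) * (k⁻¹ * k') * w = w * (k⁻¹ * k') * (w * (k⁻¹ * k')) * (k⁻¹ * k')⁻¹ := by group
          _ = k⁻¹ * k' := by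
            rw [hw2', one_mul, inv_eq_of_mul_eq_one_right (S.ker_mul_self hc hkm)]
      rw [h4, left_eq_mul, conj_eq_one_iff] at h3
      exact p.1.2 (Subtype.ext h3)
  · rw [Nat.card_sum, Nat.card_prod, Nat.card_prod,
      show Nat.card {k : lineKer Ω u // k ≠ 1} = Nat.card (lineKer Ω u) - 1 from ?_,
      show Nat.card {a : E // a ≠ 1} = Nat.card E - 1 from ?_, S.card_Q hc]
    · rw [mul_add, sq]; apply le_of_eq; ring
    all_goals exact card_ne_one

end ShapeTwo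

end Cfsg.Agent.H3.Asch
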