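import Cfsg.Agent.H26.Asch.ShapeTwoClassFix
import Cfsg.Agent.H6.Asch.Criterion

/-!
No element proper: the rank theorem without hypotheses (lines of shape two are excluded by
`classFix` and `shapeTwoNone` of `Cfsg.Agent.H26.Asch.ShapeTwoClassFix`).
-/

set_option autoImplicit false

namespace Cfsg.Agent.H3.Asch

open Cfsg.Agent.H30.Asch

universe u v

variable {G : Type u} [Group G] {Ω : Type v} [MulAction G Ω] {D : Set G} [Finite G] [Finite Ω]

/-- **The rank theorem.** -/
theorem pairsStep (h : Cfsg.Agent.H14.Asch.Crit G Ω D) :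
    Cfsg.Agent.H6.Asch.PairsStep G Ω D :=
  rankOnePairs_of_shapeTwo h shapeTwoNone

end Cfsg.Agent.H3.Asch
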