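import Cfsg.Agent.H30.Asch.ShapeTwoFused
import Cfsg.Agent.H3.Asch.ShapeTwoMax

/-!
No element proper, lines of shape two, CASE II, the scalar step: an element centralising `E` which fixes the
class of `u` and of every involution among the translations moving `u` is a translation.  Otherwise the kernel
is as large as `E`, three classes exist and their scalars are mutually inverse.
-/

set_option autoImplicit false
set_option linter.style.haveILetI false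
set_option linter.unusedSectionVars false

namespace Cfsg.Agent.H3.Asch

open Subgroup MulAction
open Cfsg.Agent.H14.Asch
open Cfsg.Agent.H39
open Cfsg.Agent.H30.Asch

universe u v

variable {G : Type u} [Group G] {Ω : Type v} [MulAction G Ω] {D : Set G} [Finite G] [Finite Ω]

/-- An involution has the same translations and the same kernel order as `u`. -/
def Friend (D : Set G) (u z : G) (x : Ω) (E : Subgroup G) : Prop :=
  ∃ (w : G) (c : Ω) (Q' A' : Subgroup G), ShapeTwo D z w x c E Q' A' ∧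
    moveGroup z E = moveGroup u E ∧ Nat.card (lineKer Ω z) = Nat.card (lineKer Ω u)

namespace ShapeTwo

variable {u v : G} {x y : Ω} {E Q A : Subgroup G} (S : ShapeTwo D u v x y E Q A) (hc : NPCtx G Ω D)
include S hc

/-- An element with non-trivial scalar fixes an involution over every element of `E`. -/
theorem exists_fixed_invol {g k e δ a₁ : G} (hgE : ∀ a ∈ E, Commute g a) (hk : k ∈ lineKer Ω u)
    (hk1 : k ≠ 1) (he : e ∈ E) (hgu : g * u * g⁻¹ = k * e) (hδ : δ ∈ A) (hδs : IsScalar Ω u k E δ)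
    (hδne : ¬ ∀ b ∈ E, Commute δ b) (ha₁ : a₁ ∈ E) :
    ∃ w ∈ moveGroup u E, w * w = 1 ∧ w * u * w⁻¹ = u * a₁ ∧ δ * g * w * (δ * g)⁻¹ = w := by
  set s := δ * g with hs
  set σ : G → G := fun t => s * t * s⁻¹ with hσ
  have hmove : ∀ {t a : G}, t ∈ moveGroup u E → a ∈ E → t * u * t⁻¹ = u * a →
      σ t ∈ moveGroup u E ∧ σ t * u * (σ t)⁻¹ = u * a := by
    intro t a ht ha hta
    set t' := g * t * g⁻¹ with ht'
    have ht'E : ∀ b ∈ E, Commute t' b := fun b hb =>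
      ((hgE b hb).mul_left (ht.1 b hb)).mul_left (hgE b hb).inv_left
    have ht'k : t' * k * t'⁻¹ = k * a := by
      have h1 : t' * (k * e) * t'⁻¹ = k * e * a := by
        rw [← hgu, show t' * (g * u * g⁻¹) * t'⁻¹ = g * (t * u * t⁻¹) * g⁻¹ by rw [ht']; group, hta,
          show g * (u * a) * g⁻¹ = g * u * g⁻¹ * (g * a * g⁻¹) by group,
          conj_eq_of_commute (hgE a ha)]
      rw [show t' * (k * e) * t'⁻¹ = t' * k * t'⁻¹ * (t' * e * t'⁻¹) by group,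
        conj_eq_of_commute (ht'E e he), mul_assoc k e a, (S.E_comm he ha).eq, ← mul_assoc] at h1
      exact mul_right_cancel h1
    have ht'T : t' ∈ moveGroup u E := S.moveGroup_eq hc hk hk1 ▸ ⟨ht'E, a, ha, ht'k⟩
    obtain ⟨-, a', ha', hta'⟩ := id ht'T
    have h2 := S.conj_ker hc ht'T ha' hta' hk hk1 hδ hδs
    rw [ht'k] at h2
    have h3 := S.conj_mem_moveGroup hc hδ ht'T ha' hta'
    rw [← mul_left_cancel h2] at h3
    have : δ * t' * δ⁻¹ = σ t := by simp only [hσ, hs, ht']; group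
    rwa [this] at h3
  set M := moveGroup u E ⊓ centralizer ({u} : Set G) with hM
  have hMmem : ∀ {m : G}, m ∈ M ↔ m ∈ moveGroup u E ∧ Commute m u := fun {m} => by
    rw [hM, mem_inf, mem_centralizer_singleton_iff]; rfl
  have hσM : ∀ m ∈ M, σ m ∈ M := fun m hm => by
    obtain ⟨hmT, hmu⟩ := hMmem.mp hm
    obtain ⟨h1, h2⟩ := hmove hmT (one_mem E) (by rw [mul_one]; exact conj_eq_of_commute hmu)
    rw [mul_one] at h2
    exact hMmem.mpr ⟨h1, commute_of_conj_eq h2⟩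
  have hfpf : ∀ m ∈ M, σ m = m → m = 1 := by
    intro m hm hfix
    obtain ⟨hmT, hmu⟩ := hMmem.mp hm
    obtain ⟨q, hq, k', hk', rfl⟩ := S.mem_cent hc hmT.1 hmu
    have hsq : q * k' * (q * k') = q * q := by
      rw [mul_assoc q k', ← mul_assoc k' q k', ← (S.ker_commute_Q hc hk' hq).eq, mul_assoc q k',
        S.ker_mul_self hc hk', mul_one]
    have hqq : q * q = 1 := by
      refine S.A_fpf hc hδ hδne (S.line.sq_mem q hq) ?_
      have h1 : σ (q * k') * σ (q * k') = s * (q * q) * s⁻¹ := by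
        rw [← hsq]; simp only [hσ]; group
      rw [hfix, hsq, hs, show δ * g * (q * q) * (δ * g)⁻¹ = δ * (g * (q * q) * g⁻¹) * δ⁻¹ by group,
        conj_eq_of_commute (hgE _ (S.line.sq_mem q hq))] at h1
      exact h1.symm
    have hqE : q ∈ E := by
      by_cases hq1 : q = 1
      · exact hq1 ▸ one_mem E
      · exact S.line.omega q hq (orderOf_eq_two_of_mul_self hqq hq1)
    have hfix' : δ * q * δ⁻¹ * (δ * (g * k' * g⁻¹) * δ⁻¹) = q * k' := by
      calc δ * q * δ⁻¹ * (δ * (g * k' * g⁻¹) * δ⁻¹)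
          = δ * ((g * q * g⁻¹) * (g * k' * g⁻¹)) * δ⁻¹ := by
            rw [conj_eq_of_commute (hgE q hqE)]; group
        _ = σ (q * k') := by simp only [hσ, hs]; group
        _ = q * k' := hfix
    by_cases hk'1 : k' = 1
    · rw [hk'1] at hfix' ⊢
      rw [mul_one]
      refine S.A_fpf hc hδ hδne hqE ?_
      simpa using hfix'
    exfalso
    obtain ⟨γ, hγ, hγs⟩ := S.exists_scalar_ker hc hk' hk'1
    obtain ⟨k'', hk'', -, e', he', hgk, hk''s⟩ :=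
      S.conj_ker_stab hc hgE hk he hgu hδ hδs hk' hk'1 hγ hγs
    rw [hgk, show δ * (k'' * e') * δ⁻¹ = δ * k'' * δ⁻¹ * (δ * e' * δ⁻¹) by group,
      conj_eq_of_commute (S.ker_commute_A hc hk'' hδ),
      ← (S.ker_commute_E hc hk'' (S.conj_A_E hc hδ he')).eq, ← mul_assoc] at hfix'
    obtain ⟨-, rfl⟩ := S.decomp_unique hc
      (mul_mem (S.line.E_le (S.conj_A_E hc hδ hqE)) (S.line.E_le (S.conj_A_E hc hδ he')))
      hq hk'' hk' hfix'
    refine hδne fun b hb => commute_of_conj_eq ?_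
    have h1 := S.pair_unique hc (k := k'') hb (S.conj_A_E hc (mul_mem hγ hδ) hb) (S.conj_A_E hc hγ hb)
      (hk''s b hb) (hγs b hb)
    calc δ * b * δ⁻¹ = γ⁻¹ * (γ * δ * b * (γ * δ)⁻¹) * γ := by group
      _ = b := by rw [h1]; group
  obtain ⟨t, ht, htu⟩ := S.exists_move hc ha₁
  let f : M → M := fun m => ⟨(m : G) * (σ m)⁻¹, mul_mem m.2 (inv_mem (hσM m m.2))⟩
  have hinj : Function.Injective f := by
    intro m m' e1
    have e2 : (m : G) * (σ m)⁻¹ = (m' : G) * (σ m')⁻¹ := congrArg Subtype.val e1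
    have h1 := hfpf _ (mul_mem (inv_mem m'.2) m.2) (by
      calc σ ((m' : G)⁻¹ * m) = (σ m')⁻¹ * σ m := by simp only [hσ]; group
        _ = (m' : G)⁻¹ * ((m' : G) * (σ m')⁻¹) * σ m := by group
        _ = (m' : G)⁻¹ * m := by rw [← e2]; group)
    exact Subtype.ext (inv_mul_eq_one.mp h1).symm
  obtain ⟨hσt, hσtu⟩ := hmove ht ha₁ htu
  have hm₁ : t⁻¹ * σ t ∈ M := by
    refine hMmem.mpr ⟨mul_mem (inv_mem ht) hσt, commute_of_conj_eq ?_⟩
    calc t⁻¹ * σ t * u * (t⁻¹ * σ t)⁻¹ = t⁻¹ * (σ t * u * (σ t)⁻¹) * t := by group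
      _ = u := by rw [hσtu, ← htu]; group
  obtain ⟨⟨m, hm⟩, hfm⟩ := (Finite.injective_iff_surjective.mp hinj) ⟨_, hm₁⟩
  have hfm' : m * (σ m)⁻¹ = t⁻¹ * σ t := congrArg Subtype.val hfm
  set w := t * m with hw
  have hwfix : σ w = w := by
    calc σ w = t * (t⁻¹ * σ t) * σ m := by simp only [hw, hσ]; group
      _ = w := by rw [← hfm', hw]; group
  obtain ⟨hmT, hmu⟩ := hMmem.mp hm
  have hwT : w ∈ moveGroup u E := mul_mem ht hmT
  have hwu : w * u * w⁻¹ = u * a₁ := by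
    calc w * u * w⁻¹ = t * (m * u * m⁻¹) * t⁻¹ := by rw [hw]; group
      _ = u * a₁ := by rw [conj_eq_of_commute hmu, htu]
  refine ⟨w, hwT, ?_, hwu, hwfix⟩
  refine hfpf _ (hMmem.mpr ⟨mul_mem hwT hwT, commute_of_conj_eq ?_⟩) ?_
  · calc w * w * u * (w * w)⁻¹ = w * (w * u * w⁻¹) * w⁻¹ := by group
      _ = (w * u * w⁻¹) * (w * a₁ * w⁻¹) := by
        conv_lhs => rw [hwu]
        group
      _ = u := by
        rw [hwu, conj_eq_of_commute (hwT.1 a₁ ha₁), mul_assoc, S.E_sq hc ha₁, mul_one]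
  · calc σ (w * w) = σ w * σ w := by simp only [hσ]; group
      _ = w * w := by rw [hwfix]

/-- An involution moving `u` inside `u E` to another element does not commute with `u`. -/
theorem not_commute_of_move {w a : G} (ha1 : a ≠ 1) (hwu : w * u * w⁻¹ = u * a) : ¬ Commute w u :=
  fun h => ha1 (by rw [conj_eq_of_commute h] at hwu; exact mul_eq_left.mp hwu.symm)

/-- A non-trivial scalar forces the kernel to be as large as `E`. -/
theorem card_ker_eq_of_scalar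
    (hr : ∀ z ∈ moveGroup u E, z * z = 1 → ¬ Commute z u → Friend D u z x E)
    {g k e δ : G} (hgE : ∀ a ∈ E, Commute g a) (hk : k ∈ lineKer Ω u) (hk1 : k ≠ 1) (he : e ∈ E)
    (hgu : g * u * g⁻¹ = k * e) (hδ : δ ∈ A) (hδs : IsScalar Ω u k E δ)
    (hδne : ¬ ∀ b ∈ E, Commute δ b) : Nat.card (lineKer Ω u) = Nat.card E := by
  classical
  refine le_antisymm (S.card_ker_le hc) ?_
  choose w hwT hw2 hwu hwfix using fun a : E => S.exists_fixed_invol hc hgE hk hk1 he hgu hδ hδs hδne a.2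
  obtain ⟨a₁, ha₁, ha₁1, -⟩ := line2_exists_ne S.line (a := 1)
  set w₁ := w ⟨a₁, ha₁⟩
  obtain ⟨z, c, Q', A', S', hmove, hcard⟩ :=
    hr w₁ (hwT _) (hw2 _) (S.not_commute_of_move hc ha₁1 (hwu _))
  have hdec : ∀ a : E, ∃ k' : lineKer Ω w₁, ∃ e' ∈ E, w a = e' * k' := by
    intro a
    obtain ⟨hE', b, hb, hab⟩ : w a ∈ moveGroup w₁ E := hmove ▸ hwT a
    have h1 : δ * g * (w a * w₁ * (w a)⁻¹) * (δ * g)⁻¹ = w a * w₁ * (w a)⁻¹ := by
      rw [show δ * g * (w a * w₁ * (w a)⁻¹) * (δ * g)⁻¹ =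
        (δ * g * w a * (δ * g)⁻¹) * (δ * g * w₁ * (δ * g)⁻¹) * (δ * g * w a * (δ * g)⁻¹)⁻¹ by group,
        hwfix, hwfix]
    rw [hab, show δ * g * (w₁ * b) * (δ * g)⁻¹ =
      (δ * g * w₁ * (δ * g)⁻¹) * (δ * (g * b * g⁻¹) * δ⁻¹) by group, hwfix,
      conj_eq_of_commute (hgE b hb)] at h1
    rw [S.A_fpf hc hδ hδne hb (mul_left_cancel h1), mul_one] at hab
    obtain ⟨e', he', k', hk', -, hek⟩ := S'.mem_cent_invol hc hE' (commute_of_conj_eq hab) (hw2 a)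
    exact ⟨⟨k', hk'⟩, e', he', hek⟩
  choose k' e' he' hek using hdec
  rw [← hcard]
  refine Nat.card_le_card_of_injective k' fun a b hab => ?_
  have hd : w b = w a * (e' a * e' b) := by
    rw [hek b, hek a, hab, mul_assoc, (S'.ker_commute_E hc (k' b).2 (mul_mem (he' a) (he' b))).symm.eq,
      ← mul_assoc, ← mul_assoc, S.E_sq hc (he' a), one_mul]
  have h2 := hwu b
  rw [hd, show w a * (e' a * e' b) * u * (w a * (e' a * e' b))⁻¹ =
    w a * ((e' a * e' b) * u * (e' a * e' b)⁻¹) * (w a)⁻¹ by group,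
    conj_eq_of_commute (S.E_commute_u (mul_mem (he' a) (he' b))), hwu a] at h2
  exact Subtype.ext (mul_left_cancel h2)

/-- With a kernel as large as `E` the kernel moves every translation over `a ≠ 1` to every element of `E`. -/
theorem exists_ker_comm (hq : Nat.card (lineKer Ω u) = Nat.card E) {t a b : G}
    (ht : t ∈ moveGroup u E) (ha : a ∈ E) (ha1 : a ≠ 1) (htu : t * u * t⁻¹ = u * a) (hb : b ∈ E) :
    ∃ k ∈ lineKer Ω u, t * k * t⁻¹ = k * b := by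
  have hval : ∀ k : lineKer Ω u, ∃ e : E, t * k * t⁻¹ = k * e ∧ ((e : G) = 1 → (k : G) = 1) := by
    intro k
    by_cases hk1 : (k : G) = 1
    · exact ⟨1, by simp [hk1], fun _ => hk1⟩
    obtain ⟨α, hα, hαs⟩ := S.exists_scalar_ker hc k.2 hk1
    exact ⟨⟨_, S.conj_A_E hc hα ha⟩, S.conj_ker hc ht ha htu k.2 hk1 hα hαs,
      fun h => absurd (conj_eq_one_iff.mp h) ha1⟩
  choose f hf hf1 using hval
  have hinj : Function.Injective f := by
    intro k k' h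
    have h1 : t * ((k : G) * k') * t⁻¹ = k * k' := by
      rw [show t * ((k : G) * k') * t⁻¹ = (t * k * t⁻¹) * (t * k' * t⁻¹) by group, hf, hf, h,
        mul_assoc, ← mul_assoc (f k' : G), (S.ker_commute_E hc k'.2 (f k').2).eq, mul_assoc (k' : G),
        S.E_sq hc (f k').2, mul_one]
    have h2 := hf (k * k')
    rw [show ((k * k' : lineKer Ω u) : G) = (k : G) * k' from rfl, h1, left_eq_mul] at h2
    have h3 : (k : G) * k' = 1 := hf1 (k * k') h2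
    exact Subtype.ext ((eq_inv_of_mul_eq_one_left h3).trans
      (inv_eq_of_mul_eq_one_right (S.ker_mul_self hc k'.2)))
  have hbij := (Nat.bijective_iff_injective_and_card f).mpr ⟨hinj, hq⟩
  obtain ⟨k, hk⟩ := hbij.2 ⟨b, hb⟩
  exact ⟨k, k.2, by rw [hf, hk]⟩

/-- With a kernel as large as `E` the scalars of two classes pairing non-trivially are mutually inverse. -/
theorem scalar_inverse (hq : Nat.card (lineKer Ω u) = Nat.card E) {z w : G} {c : Ω}
    {Q' A' : Subgroup G} (S' : ShapeTwo D z w x c E Q' A') (hmove : moveGroup z E = moveGroup u E)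
    (hzT : z ∈ moveGroup u E) {a : G} (ha : a ∈ E) (ha1 : a ≠ 1) (hzu : z * u * z⁻¹ = u * a)
    {g k e δ k' e' τ : G} (hgE : ∀ b ∈ E, Commute g b) (hk : k ∈ lineKer Ω u) (he : e ∈ E)
    (hgu : g * u * g⁻¹ = k * e) (hδ : δ ∈ A) (hδs : IsScalar Ω u k E δ)
    (hk' : k' ∈ lineKer Ω z) (hk'1 : k' ≠ 1) (he' : e' ∈ E) (hgz : g * z * g⁻¹ = k' * e') (hτ : τ ∈ A')
    (hτs : IsScalar Ω z k' E τ) {b : G} (hb : b ∈ E) : τ * (δ * b * δ⁻¹) * τ⁻¹ = b := by
  by_cases hb1 : b = 1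
  · subst hb1; group
  obtain ⟨k₁, hk₁, hk₁b⟩ := S.exists_ker_comm hc hq hzT ha ha1 hzu hb
  have hk₁1 : k₁ ≠ 1 := fun h => hb1 (by rw [h] at hk₁b; simpa using hk₁b.symm)
  obtain ⟨γ, hγ, hγs⟩ := S.exists_scalar_ker hc hk₁ hk₁1
  have hbγ : γ * a * γ⁻¹ = b :=
    mul_left_cancel ((S.conj_ker hc hzT ha hzu hk₁ hk₁1 hγ hγs).symm.trans hk₁b)
  obtain ⟨k₂, hk₂, hk₂1, e₂, he₂, hgk, hk₂s⟩ :=
    S.conj_ker_stab hc hgE hk he hgu hδ hδs hk₁ hk₁1 hγ hγs
  -- moving `z` by an element of the kernel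
  have hflip : ∀ {l m : G}, l ∈ lineKer Ω u → m ∈ E → z * l * z⁻¹ = l * m → l * z * l⁻¹ = z * m := by
    intro l m hl hm h
    calc l * z * l⁻¹ = (z * l * z⁻¹ * m⁻¹) * z * l⁻¹ := by rw [h]; group
      _ = z * l * (z⁻¹ * m⁻¹ * z) * l⁻¹ := by group
      _ = z * (l * m * l⁻¹) := by
        rw [S.E_inv hc hm, mul_assoc z⁻¹, ← (hzT.1 m hm).eq, inv_mul_cancel_left]; group
      _ = z * m := by rw [conj_eq_of_commute (S.ker_commute_E hc hl hm).symm]
  have hA1 : g * (k₁ * z * k₁⁻¹) * g⁻¹ = k' * e' * b := by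
    rw [hflip hk₁ hb hk₁b, show g * (z * b) * g⁻¹ = g * z * g⁻¹ * (g * b * g⁻¹) by group, hgz,
      conj_eq_of_commute (hgE b hb)]
  have hc2 : γ * δ * a * (γ * δ)⁻¹ ∈ E := S.conj_A_E hc (mul_mem hγ hδ) ha
  have h3 : k₂ * k' * k₂⁻¹ = k' * (τ * (γ * δ * a * (γ * δ)⁻¹) * τ⁻¹) :=
    S'.conj_ker hc (hmove ▸ S.ker_le_move hc hk₂) hc2
      (hflip hk₂ hc2 (S.conj_ker hc hzT ha hzu hk₂ hk₂1 (mul_mem hγ hδ) hk₂s)) hk' hk'1 hτ hτs
  rw [show g * (k₁ * z * k₁⁻¹) * g⁻¹ = (g * k₁ * g⁻¹) * (g * z * g⁻¹) * (g * k₁ * g⁻¹)⁻¹ by group, hgk,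
    hgz] at hA1
  have h4 : k₂ * e₂ * (k' * e') * (k₂ * e₂)⁻¹ = k₂ * k' * k₂⁻¹ * e' := by
    calc k₂ * e₂ * (k' * e') * (k₂ * e₂)⁻¹
        = k₂ * (e₂ * (k' * e') * e₂⁻¹) * k₂⁻¹ := by group
      _ = k₂ * k' * k₂⁻¹ * (k₂ * e' * k₂⁻¹) := by
        rw [conj_eq_of_commute ((S'.ker_commute_E hc hk' he₂).mul_right (S.E_comm he₂ he'))]; group
      _ = k₂ * k' * k₂⁻¹ * e' := by rw [conj_eq_of_commute (S.ker_commute_E hc hk₂ he').symm]
  rw [h4, h3, mul_assoc k' _ e', mul_assoc k' e' b] at hA1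
  have h5 := mul_left_cancel hA1
  rw [(S'.E_comm (S'.conj_A_E hc hτ hc2) he').eq] at h5
  have h6 := mul_left_cancel h5
  rwa [show γ * δ * a * (γ * δ)⁻¹ = δ * b * δ⁻¹ by rw [(S.A_comm hγ hδ).eq, ← hbγ]; group] at h6

/-- **CASE II, scalars**: an element centralising `E` and fixing all classes is a translation. -/
theorem mem_move_of_fix_classes (hsq : ∀ t ∈ moveGroup u E, t * t ∈ E)
    (hr : ∀ z ∈ moveGroup u E, z * z = 1 → ¬ Commute z u → Friend D u z x E)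
    {g : G} (hgE : ∀ a ∈ E, Commute g a)
    (hu : ∃ k ∈ lineKer Ω u, ∃ e ∈ E, g * u * g⁻¹ = k * e)
    (hz : ∀ z ∈ moveGroup u E, z * z = 1 → ¬ Commute z u →
      ∃ k ∈ lineKer Ω z, ∃ e ∈ E, g * z * g⁻¹ = k * e) : g ∈ moveGroup u E := by
  obtain ⟨k, hk, e, he, hgu⟩ := hu
  have hne : ∀ {g' z k e : G}, (∀ b ∈ E, Commute g' b) → z ∉ E → e ∈ E → g' * z * g'⁻¹ = k * e →
      k ≠ 1 := by
    intro g' z k e hg' hzE he h hk1
    rw [hk1, one_mul] at h
    refine hzE ?_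
    have : z = e := by
      calc z = g'⁻¹ * (g' * z * g'⁻¹) * g' := by group
        _ = e := by rw [h, mul_assoc, ← (hg' e he).eq, inv_mul_cancel_left]
    rwa [this]
  have hk1 := hne hgE (S.not_mem_E_of_fix (S.u_mem_ker hc) (S.u_ne_one hc)) he hgu
  obtain ⟨δ, hδ, hδs⟩ := S.exists_scalar_ker hc hk hk1
  obtain ⟨a₁, ha₁, ha₁1, -⟩ := line2_exists_ne S.line (a := 1)
  by_cases hδc : ∀ b ∈ E, Commute δ b
  · have h1 := hδs a₁ ha₁
    rw [conj_eq_of_commute (hδc a₁ ha₁)] at h1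
    rw [S.pair_inj hc hk (S.u_mem_ker hc) S.uu ha₁ ha₁1 ha₁ h1 rfl] at hgu
    exact ⟨hgE, e, he, hgu⟩
  exfalso
  have hq := S.card_ker_eq_of_scalar hc hr hgE hk hk1 he hgu hδ hδs hδc
  obtain ⟨w, hwT, hw2, hwu, -⟩ := S.exists_fixed_invol hc hgE hk hk1 he hgu hδ hδs hδc ha₁
  have hwu' := S.not_commute_of_move hc ha₁1 hwu
  -- a third class
  obtain ⟨q₀, hq₀, hq₀E⟩ : ∃ q₀ ∈ Q, q₀ ∉ E := by
    by_contra hcon
    push Not at hcon
    exact S.ne (le_antisymm hcon S.line.E_le)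
  set t := w * q₀ with ht
  have htT : t ∈ moveGroup u E := mul_mem hwT (S.Q_le_move hc hq₀)
  have htu : t * u * t⁻¹ = u * a₁ := by
    rw [ht, show w * q₀ * u * (w * q₀)⁻¹ = w * (q₀ * u * q₀⁻¹) * w⁻¹ by group,
      conj_eq_of_commute (line2_commute S.line hq₀), hwu]
  have htt := hsq t htT
  obtain ⟨k₀, hk₀, hk₀t⟩ := S.exists_ker_comm hc hq htT ha₁ ha₁1 htu htt
  set d := t * k₀ with hd
  have hdT : d ∈ moveGroup u E := mul_mem htT (S.ker_le_move hc hk₀)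
  have hd2 : d * d = 1 := by
    calc d * d = (t * k₀ * t⁻¹) * (t * t) * k₀ := by rw [hd]; group
      _ = k₀ * ((t * t) * (t * t)) * k₀ := by rw [hk₀t]; group
      _ = 1 := by rw [S.E_sq hc htt, mul_one, S.ker_mul_self hc hk₀]
  have hdu : d * u * d⁻¹ = u * a₁ := by
    rw [hd, show t * k₀ * u * (t * k₀)⁻¹ = t * (k₀ * u * k₀⁻¹) * t⁻¹ by group,
      conj_eq_of_commute (mem_lineKer.mp hk₀).2, htu]
  have hdu' := S.not_commute_of_move hc ha₁1 hdu
  obtain ⟨wp, cw, Qw, Aw, Sw, hwmove, hwcard⟩ := hr w hwT hw2 hwu'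
  obtain ⟨dp, cd, Qd, Ad, Sd, hdmove, hdcard⟩ := hr d hdT hd2 hdu'
  obtain ⟨-, b, hb, hdw⟩ : d ∈ moveGroup w E := hwmove ▸ hdT
  have hb1 : b ≠ 1 := by
    intro hb1
    rw [hb1, mul_one] at hdw
    have hdw' : Commute d w := commute_of_conj_eq hdw
    have hqk : w * d = q₀ * k₀ := by rw [hd, ht, ← mul_assoc, ← mul_assoc, hw2, one_mul]
    have h1 : q₀ * k₀ * (q₀ * k₀) = 1 := by
      rw [← hqk, show w * d * (w * d) = w * (d * w) * d by group, hdw'.eq,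
        show w * (w * d) * d = (w * w) * (d * d) by group, hw2, hd2, one_mul]
    rw [mul_assoc q₀, ← mul_assoc k₀, ← (S.ker_commute_Q hc hk₀ hq₀).eq, mul_assoc q₀ k₀,
      S.ker_mul_self hc hk₀, mul_one] at h1
    by_cases hq1 : q₀ = 1
    · exact hq₀E (hq1 ▸ one_mem E)
    · exact hq₀E (S.line.omega q₀ hq₀ (orderOf_eq_two_of_mul_self h1 hq1))
  obtain ⟨kw, hkw, ew, hew, hgw⟩ := hz w hwT hw2 hwu'
  obtain ⟨kd, hkd, ed, hed, hgd⟩ := hz d hdT hd2 hdu'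
  have hkw1 := hne hgE (Sw.not_mem_E_of_fix (Sw.u_mem_ker hc) (Sw.u_ne_one hc)) hew hgw
  have hkd1 := hne hgE (Sd.not_mem_E_of_fix (Sd.u_mem_ker hc) (Sd.u_ne_one hc)) hed hgd
  obtain ⟨ω, hω, hωs⟩ := Sw.exists_scalar_ker hc hkw hkw1
  obtain ⟨τ, hτ, hτs⟩ := Sd.exists_scalar_ker hc hkd hkd1
  have h1 : ∀ {c : G}, c ∈ E → ω * (δ * c * δ⁻¹) * ω⁻¹ = c := fun hc' =>
    S.scalar_inverse hc hq Sw hwmove hwT ha₁ ha₁1 hwu hgE hk he hgu hδ hδs hkw hkw1 hew hgw hω hωs hc'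
  have h2 : ∀ {c : G}, c ∈ E → τ * (δ * c * δ⁻¹) * τ⁻¹ = c := fun hc' =>
    S.scalar_inverse hc hq Sd hdmove hdT ha₁ ha₁1 hdu hgE hk he hgu hδ hδs hkd hkd1 hed hgd hτ hτs hc'
  have h3 : ∀ {c : G}, c ∈ E → τ * (ω * c * ω⁻¹) * τ⁻¹ = c := fun hc' =>
    Sw.scalar_inverse hc (hwcard.trans hq) Sd (hdmove.trans hwmove.symm) (hwmove.symm ▸ hdT) hb hb1 hdw
      hgE hkw hew hgw hω hωs hkd hkd1 hed hgd hτ hτs hc'
  have hωE : ∀ {c : G}, c ∈ E → ω * ω * c * (ω * ω)⁻¹ = c := by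
    intro c hc'
    have h4 : ω * c * ω⁻¹ = τ * c * τ⁻¹ := by
      have hc'' := S.conj_A_E hc (inv_mem hδ) hc'
      have e1 := h1 hc''
      have e2 := h2 hc''
      rw [show δ * (δ⁻¹ * c * δ⁻¹⁻¹) * δ⁻¹ = c by group] at e1 e2
      exact e1.trans e2.symm
    have hcw := Sw.conj_A_E hc hω hc'
    have h5 : ω * (ω * c * ω⁻¹) * ω⁻¹ = τ * (ω * c * ω⁻¹) * τ⁻¹ := by
      have hc'' := S.conj_A_E hc (inv_mem hδ) hcw
      have e1 := h1 hc''
      have e2 := h2 hc''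
      rw [show δ * (δ⁻¹ * (ω * c * ω⁻¹) * δ⁻¹⁻¹) * δ⁻¹ = ω * c * ω⁻¹ by group] at e1 e2
      exact e1.trans e2.symm
    rw [show ω * ω * c * (ω * ω)⁻¹ = ω * (ω * c * ω⁻¹) * ω⁻¹ by group, h5, h3 hc']
  obtain ⟨i, hi⟩ : Odd (orderOf ω) :=
    (H29.Asch.line2_odd_card Sw.line hc.crit Sw.quad.hy.1 Sw.quad.ne.symm).of_dvd_nat
      (Subgroup.orderOf_dvd_natCard _ (Sw.A_le hω))
  have hωc : ∀ {c : G}, c ∈ E → Commute ω c := fun {c} hc' => by
    have h6 := (commute_of_conj_eq (hωE hc')).pow_left (i + 1)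
    rwa [← pow_two, ← pow_mul, show 2 * (i + 1) = orderOf ω + 1 by omega, pow_succ, pow_orderOf_eq_one,
      one_mul] at h6
  refine hδc fun c hc' => commute_of_conj_eq ?_
  have h7 := h1 hc'
  rwa [conj_eq_of_commute (hωc (S.conj_A_E hc hδ hc'))] at h7

end ShapeTwo

end Cfsg.Agent.H3.Asch
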