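import Cfsg.Agent.H3.Asch.ShapeTwoBase

/-!
No element proper, lines of shape two (notes/helper26_asch_shape2.md, L1, L3, L4): translations exist over every
element of `E`, the kernel is elementary abelian, and the elements centralising `E` and moving `u` inside `u E`
form a two-group of order `|E| * |Q| * |kernel|` centralising the kernel modulo `E`.
-/

set_option autoImplicit false
set_option linter.style.haveILetI false
set_option linter.unusedSectionVars false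

namespace Cfsg.Agent.H3.Asch

open Subgroup MulAction
open Cfsg.Agent.H14.Asch
open Cfsg.Agent.H39
open Cfsg.Agent.H73.Asch (RankTwoBad Line2 HasLines2)
open Cfsg.Agent.H30.Asch
open scoped Pointwise

universe u v

variable {G : Type u} [Group G] {Ω : Type v} [MulAction G Ω] {D : Set G}

theorem fixedBy_conj_eq {s t : G} (h : fixedBy Ω s = fixedBy Ω t) (g : G) :
    fixedBy Ω (g * s * g⁻¹) = fixedBy Ω (g * t * g⁻¹) := by
  ext c
  have := Set.ext_iff.mp h (g⁻¹ • c)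
  simp only [mem_fixedBy, mul_smul, smul_eq_iff_eq_inv_smul (g := g)] at this ⊢
  exact this

variable [Finite G] [Finite Ω]

namespace ShapeTwo

variable {u v : G} {x y : Ω} {E Q A : Subgroup G} (S : ShapeTwo D u v x y E Q A) (hc : NPCtx G Ω D)
include S hc

theorem commute_u_of_commute_mul {z a : G} (ha : a ∈ E) (hzE : ∀ e ∈ E, Commute z e)
    (h : Commute z (u * a)) : Commute z u := by
  have h1 := h.mul_right (hzE a ha)
  rwa [mul_assoc, S.E_sq hc ha, mul_one] at h1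

omit hc in
theorem not_mem_E_of_fix {k : G} (hk : k ∈ lineKer Ω u) (hk1 : k ≠ 1) : k ∉ E := fun hE =>
  hk1 (S.eq_one_of_mem_Q_ker (S.line.E_le hE) hk)

/-- A translation moving `u` to some `u * b` with `b` non-trivial. -/
theorem exists_move_ne {a : G} (ha : a ∈ E) (ha1 : a ≠ 1) :
    ∃ t ∈ moveGroup u E, ∃ b ∈ E, b ≠ 1 ∧ t * u * t⁻¹ = u * b := by
  have h := hc.crit
  have hq := S.quad
  have ham := line2_member S.line ha ha1
  have haa := S.E_sq hc ha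
  obtain ⟨s, hs⟩ := exists_conj_mul_member h hc.lines hq.bu ⟨ham.1, ham.2.1⟩
  have hwx : (u * a) • x = x := by rw [mul_smul, S.E_smul ha, hq.hx.1]
  have hw2 : orderOf (u * a) = 2 := by rw [← hs, orderOf_conj, hq.bu.1]
  have hsx : (u * a) • s • x = s • x := hs ▸ H73.Bender.conj_smul_of_smul hq.hx.1
  have hsy : (u * a) • s • y = s • y := hs ▸ H73.Bender.conj_smul_of_smul hq.hy.1
  obtain ⟨l, hl, hlx⟩ :=
    (h.line hw2 (fun e => hq.ne (MulAction.injective s e)) hsx hsy).trans hsx hwx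
  have hla : Commute l (u * a) := commute_of_mem_lineGroup hl
  set g := l * s with hgdef
  have hgx : g • x = x := by rw [hgdef, mul_smul, hlx]
  have hgu : g * u * g⁻¹ = u * a := by
    rw [hgdef, show l * s * u * (l * s)⁻¹ = l * (s * u * s⁻¹) * l⁻¹ by group, hs,
      conj_eq_of_commute hla]
  have hgix : g⁻¹ • x = x := inv_smul_eq_iff.mpr hgx.symm
  -- the image of `v`
  set z := g * v * g⁻¹ with hz
  have hv := S.v_mem_ker hc
  have hvv := mul_self_of_orderOf_eq_two hq.bv.1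
  have hv1 : v ≠ 1 := fun e => by have := hq.bv.1; rw [e, orderOf_one] at this; omega
  have hzE : ∀ e ∈ E, Commute z e := fun e he => by
    have := commute_conj (S.ker_commute_E hc hv (S.conj_mem_E hc hgix he)).symm g
    rwa [show g * (g⁻¹ * e * g⁻¹⁻¹) * g⁻¹ = e by group] at this
  have hzu : Commute z u :=
    S.commute_u_of_commute_mul hc ha hzE (hgu ▸ commute_conj hq.comm.symm g)
  obtain ⟨e₀, he₀, k, hk, hk2, hzk⟩ := S.mem_cent_invol hc hzE hzu
    (by rw [hz, show g * v * g⁻¹ * (g * v * g⁻¹) = g * (v * v) * g⁻¹ by group, hvv]; group)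
  have hk1 : k ≠ 1 := fun e => by
    rw [e, mul_one] at hzk
    have hvE : v ∈ E := by
      have := S.conj_mem_E hc hgix (hzk ▸ he₀ : z ∈ E)
      rwa [hz, show g⁻¹ * (g * v * g⁻¹) * g⁻¹⁻¹ = v by group] at this
    exact S.not_mem_E_of_fix hv hv1 hvE
  obtain ⟨α, hα, hαs⟩ := S.exists_isScalar hc hv hvv hv1
  obtain ⟨β, hβ, hβs⟩ := S.exists_isScalar hc hk hk2 hk1
  have hzk' : z = k * e₀ := by rw [hzk, (S.ker_commute_E hc hk he₀).eq]
  -- `g` carries the scalar of `v` to that of `k`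
  have hpair : ∀ e ∈ E, e₀ * (g * (α * e * α⁻¹) * g⁻¹) = β * (a * (g * e * g⁻¹)) * β⁻¹ := by
    intro e he
    have he' := S.conj_mem_E hc hgx he
    refine S.pair_unique hc (k := k) (mul_mem ha he')
      (mul_mem he₀ (S.conj_mem_E hc hgx (S.conj_A_E hc hα he)))
      (S.conj_A_E hc hβ (mul_mem ha he')) ?_ (hβs _ (mul_mem ha he'))
    have h1 := fixedBy_conj_eq (hαs e he) g
    rwa [show g * (v * (α * e * α⁻¹)) * g⁻¹ = z * (g * (α * e * α⁻¹) * g⁻¹) by rw [hz]; group,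
      show g * (u * e) * g⁻¹ = (g * u * g⁻¹) * (g * e * g⁻¹) by group, hgu, hzk', mul_assoc,
      mul_assoc u a] at h1
  have he₀a : e₀ = β * a * β⁻¹ := by simpa using hpair 1 (one_mem E)
  have hn : ∀ e ∈ E, g * (α * e * α⁻¹) * g⁻¹ = β * (g * e * g⁻¹) * β⁻¹ := fun e he => by
    have h1 := hpair e he
    rw [he₀a, show β * (a * (g * e * g⁻¹)) * β⁻¹ = β * a * β⁻¹ * (β * (g * e * g⁻¹) * β⁻¹) by group]
      at h1
    exact mul_left_cancel h1
  have hβa : β * a * β⁻¹ ≠ a := fun e => by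
    have h1 := hβs a ha
    rw [e] at h1
    have hku := S.pair_inj hc hk (S.u_mem_ker hc) S.uu ha ha1 ha h1 rfl
    rw [hku, he₀a, e, ← hgu, hz] at hzk'
    have huv : v = u := mul_left_cancel (mul_right_cancel hzk')
    have h2 := hq.bw.1
    rw [huv, S.uu, orderOf_one] at h2
    omega
  set t := g * α * g⁻¹ * β⁻¹ with ht
  have hαu := S.A_commute hα
  have hβu := S.A_commute hβ
  set a₂ := g⁻¹ * a * g⁻¹⁻¹ with ha₂def
  have ha₂ : a₂ ∈ E := S.conj_mem_E hc hgix ha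
  have hgiu : g⁻¹ * u * g⁻¹⁻¹ = u * a₂ := by
    calc g⁻¹ * u * g⁻¹⁻¹ = g⁻¹ * ((u * a) * a⁻¹) * g := by group
      _ = (g⁻¹ * (g * u * g⁻¹) * g) * (g⁻¹ * a⁻¹ * g) := by rw [hgu]; group
      _ = u * (g⁻¹ * a * g⁻¹⁻¹) := by rw [S.E_inv hc ha]; group
  have htu : t * u * t⁻¹ = u * (a * (β * a * β⁻¹)) := by
    calc t * u * t⁻¹ = g * α * g⁻¹ * (β⁻¹ * u * β⁻¹⁻¹) * g⁻¹⁻¹ * α⁻¹ * g⁻¹ := by
          rw [ht]; simp [mul_assoc]
      _ = g * (α * (g⁻¹ * u * g⁻¹⁻¹) * α⁻¹) * g⁻¹ := by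
          rw [conj_eq_of_commute hβu.inv_left]; group
      _ = g * ((α * u * α⁻¹) * (α * a₂ * α⁻¹)) * g⁻¹ := by rw [hgiu]; group
      _ = (g * u * g⁻¹) * (g * (α * a₂ * α⁻¹) * g⁻¹) := by
          rw [conj_eq_of_commute hαu]; group
      _ = _ := by
          rw [hgu, hn a₂ ha₂, show g * a₂ * g⁻¹ = a by rw [ha₂def]; group, mul_assoc]
  have hbE : a * (β * a * β⁻¹) ∈ E := mul_mem ha (S.conj_A_E hc hβ ha)
  refine ⟨t, ⟨fun e he => commute_of_conj_eq ?_, _, hbE, htu⟩, _, hbE, fun e => hβa ?_, htu⟩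
  · calc t * e * t⁻¹ = g * (α * (g⁻¹ * (β⁻¹ * e * β⁻¹⁻¹) * g⁻¹⁻¹) * α⁻¹) * g⁻¹ := by
          rw [ht]; simp [mul_assoc]
      _ = β * (g * (g⁻¹ * (β⁻¹ * e * β⁻¹⁻¹) * g⁻¹⁻¹) * g⁻¹) * β⁻¹ :=
          hn _ (S.conj_mem_E hc hgix (S.conj_A_E hc (inv_mem hβ) he))
      _ = e := by group
  · rw [eq_inv_of_mul_eq_one_right e, S.E_inv hc ha]

theorem conj_mem_moveGroup {r t a : G} (hr : r ∈ A) (ht : t ∈ moveGroup u E) (ha : a ∈ E)
    (htu : t * u * t⁻¹ = u * a) :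
    r * t * r⁻¹ ∈ moveGroup u E ∧ r * t * r⁻¹ * u * (r * t * r⁻¹)⁻¹ = u * (r * a * r⁻¹) := by
  have hru := S.A_commute hr
  have heq : r * t * r⁻¹ * u * (r * t * r⁻¹)⁻¹ = u * (r * a * r⁻¹) := by
    calc r * t * r⁻¹ * u * (r * t * r⁻¹)⁻¹ = r * (t * (r⁻¹ * u * r⁻¹⁻¹) * t⁻¹) * r⁻¹ := by group
      _ = (r * u * r⁻¹) * (r * a * r⁻¹) := by
        rw [conj_eq_of_commute hru.inv_left, htu]; group
      _ = u * (r * a * r⁻¹) := by rw [conj_eq_of_commute hru]
  refine ⟨⟨fun e he => ?_, _, S.conj_A_E hc hr ha, heq⟩, heq⟩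
  have := commute_conj (ht.1 _ (S.conj_A_E hc (inv_mem hr) he)) r
  rwa [show r * (r⁻¹ * e * r⁻¹⁻¹) * r⁻¹ = e by group] at this

/-- TRANSLATIONS: every `u * a` is the image of `u` under an element centralising `E`. -/
theorem exists_move {a : G} (ha : a ∈ E) : ∃ t ∈ moveGroup u E, t * u * t⁻¹ = u * a := by
  by_cases ha1 : a = 1
  · exact ⟨1, one_mem _, by simp [ha1]⟩
  obtain ⟨t, ht, b, hb, hb1, htb⟩ := S.exists_move_ne hc ha ha1
  obtain ⟨r, hr, hrb⟩ := S.A_trans b hb a ha hb1 ha1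
  obtain ⟨h1, h2⟩ := S.conj_mem_moveGroup hc hr ht hb htb
  exact ⟨_, h1, hrb ▸ h2⟩

/-- The kernel has no element of odd order. -/
theorem eq_one_of_odd_ker {k : G} (hk : k ∈ lineKer Ω u) (hodd : Odd (orderOf k)) : k = 1 := by
  obtain ⟨a, ha, ha1, -⟩ := line2_exists_ne S.line (a := 1)
  obtain ⟨t, ⟨htE, -⟩, htu⟩ := S.exists_move hc ha
  have hkE : ∀ e ∈ E, Commute k e := fun e he => (S.ker_commute_E hc hk he).symm
  have hgu : Commute (t⁻¹ * k * t⁻¹⁻¹) u := by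
    have h1 := commute_conj ((mem_lineKer.mp hk).2.mul_right (hkE a ha)) t⁻¹
    rwa [← htu, show t⁻¹ * (t * u * t⁻¹) * t⁻¹⁻¹ = u by group] at h1
  have hgE : ∀ e ∈ E, Commute (t⁻¹ * k * t⁻¹⁻¹) e := fun e he =>
    ((htE e he).inv_left.mul_left (hkE e he)).mul_left (by rw [inv_inv]; exact htE e he)
  obtain ⟨q, hq, k', hk', hg⟩ := S.mem_cent hc hgE hgu
  have hq1 : q = 1 := by
    have h1 : q ^ orderOf k * k' ^ orderOf k = 1 := by
      rw [← (S.ker_commute_Q hc hk' hq).mul_pow, ← hg, conj_pow, pow_orderOf_eq_one]; group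
    have h2 := (S.decomp_unique hc (pow_mem hq _) (one_mem Q) (pow_mem hk' _) (one_mem _)
      (h1.trans (one_mul 1).symm)).1
    obtain ⟨j, hj⟩ := IsPGroup.iff_orderOf.mp S.line.isPGroup ⟨q, hq⟩
    rw [← Subgroup.orderOf_coe] at hj
    have hdvd := orderOf_dvd_of_pow_eq_one h2
    have hcop : (orderOf q).Coprime (orderOf k) := by
      rw [hj]; exact (Nat.coprime_two_left.mpr hodd).pow_left j
    exact orderOf_eq_one_iff.mp (Nat.eq_one_of_dvd_coprimes hcop dvd_rfl hdvd)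
  rw [hq1, one_mul] at hg
  refine S.eq_one_of_fix_line hc (mem_lineKer.mp hk).1 ha ha1 fun c hca => ?_
  have h1 : u • t⁻¹ • c = t⁻¹ • c := by
    have := H73.Bender.conj_smul_of_smul (g := t⁻¹) hca
    rwa [← htu, show t⁻¹ * (t * u * t⁻¹) * t⁻¹⁻¹ = u by group] at this
  have h2 := mem_fixing_iff.mp (mem_lineKer.mp hk').1 _ h1
  rw [← hg, inv_inv, mul_smul, mul_smul, smul_inv_smul] at h2
  exact MulAction.injective t⁻¹ h2

theorem isPGroup_ker : IsPGroup 2 (lineKer Ω u) := by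
  intro k
  obtain ⟨j, m, hm, hjm⟩ : ∃ j m, ¬ 2 ∣ m ∧ orderOf (k : G) = 2 ^ j * m :=
    Nat.exists_eq_pow_mul_and_not_dvd (orderOf_pos (k : G)).ne' 2 (by norm_num)
  refine ⟨j, Subtype.ext ?_⟩
  rw [Subgroup.coe_pow, Subgroup.coe_one]
  refine S.eq_one_of_odd_ker hc (pow_mem k.2 _) ?_
  rw [orderOf_pow, hjm, Nat.gcd_mul_right_left, Nat.mul_div_cancel_left _ (by positivity)]
  exact Nat.odd_iff.mpr (by omega)

/-- The translations move an involution of the kernel by its scalar. -/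
theorem conj_ker_of_sq {t a k α : G} (ht : t ∈ moveGroup u E) (ha : a ∈ E) (htu : t * u * t⁻¹ = u * a)
    (hk : k ∈ lineKer Ω u) (hk2 : k * k = 1) (hk1 : k ≠ 1) (hα : α ∈ A) (hαs : IsScalar Ω u k E α) :
    t * k * t⁻¹ = k * (α * a * α⁻¹) := by
  set z := t * k * t⁻¹ with hz
  have hzE : ∀ e ∈ E, Commute z e := fun e he =>
    ((ht.1 e he).mul_left (S.ker_commute_E hc hk he).symm).mul_left (ht.1 e he).inv_left
  have hzu : Commute z u :=
    S.commute_u_of_commute_mul hc ha hzE (htu ▸ commute_conj (mem_lineKer.mp hk).2 t)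
  obtain ⟨e, he, k', hk', hk'2, hzk⟩ := S.mem_cent_invol hc hzE hzu
    (by rw [hz, show t * k * t⁻¹ * (t * k * t⁻¹) = t * (k * k) * t⁻¹ by group, hk2]; group)
  have hk'1 : k' ≠ 1 := fun e1 => S.not_mem_E_of_fix hk hk1 (by
    rw [e1, mul_one] at hzk
    have : k = e := by
      calc k = t⁻¹ * z * t := by rw [hz]; group
        _ = e := by rw [hzk, mul_assoc, ← (ht.1 e he).eq, inv_mul_cancel_left]
    rw [this]; exact he)
  have hzk' : z = k' * e := by rw [hzk, (S.ker_commute_E hc hk' he).eq]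
  obtain ⟨β, hβ, hβs⟩ := S.exists_isScalar hc hk' hk'2 hk'1
  have hpair : ∀ b ∈ E, e * (α * b * α⁻¹) = β * (a * b) * β⁻¹ := by
    intro b hb
    refine S.pair_unique hc (k := k') (mul_mem ha hb) (mul_mem he (S.conj_A_E hc hα hb))
      (S.conj_A_E hc hβ (mul_mem ha hb)) ?_ (hβs _ (mul_mem ha hb))
    have h1 := fixedBy_conj_eq (hαs b hb) t
    rwa [show t * (k * (α * b * α⁻¹)) * t⁻¹ = z * (t * (α * b * α⁻¹) * t⁻¹) by rw [hz]; group,
      conj_eq_of_commute (ht.1 _ (S.conj_A_E hc hα hb)),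
      show t * (u * b) * t⁻¹ = (t * u * t⁻¹) * (t * b * t⁻¹) by group, htu,
      conj_eq_of_commute (ht.1 b hb), hzk', mul_assoc, mul_assoc u a] at h1
  have hea : e = β * a * β⁻¹ := by simpa using hpair 1 (one_mem E)
  have hαβ : ∀ b ∈ E, α * b * α⁻¹ = β * b * β⁻¹ := fun b hb => by
    have h1 := hpair b hb
    rw [hea, show β * (a * b) * β⁻¹ = β * a * β⁻¹ * (β * b * β⁻¹) by group] at h1
    exact mul_left_cancel h1
  obtain ⟨b, hb, hb1, -⟩ := line2_exists_ne S.line (a := 1)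
  obtain rfl : k = k' := S.pair_inj hc hk hk' hk'2 hb hb1 (S.conj_A_E hc hα hb) (hαs b hb)
    ((hαβ b hb).symm ▸ hβs b hb)
  rw [hzk', hea, hαβ a ha]

/-- The kernel has exponent two. -/
theorem ker_mul_self {r : G} (hr : r ∈ lineKer Ω u) : r * r = 1 := by
  by_contra hne
  obtain ⟨j, hj⟩ := IsPGroup.iff_orderOf.mp (S.isPGroup_ker hc) ⟨r, hr⟩
  rw [← Subgroup.orderOf_coe] at hj
  obtain ⟨i, rfl⟩ : ∃ i, j = i + 2 := ⟨j - 2, by
    rcases j with _ | _ | j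
    · rw [pow_zero, orderOf_eq_one_iff] at hj
      exact absurd (by rw [show r = 1 from hj, one_mul] : r * r = 1) hne
    · rw [zero_add, pow_one] at hj
      exact absurd (mul_self_of_orderOf_eq_two hj) hne
    · omega⟩
  set r₁ := r ^ 2 ^ i with hr₁def
  have hr₁ : r₁ ∈ lineKer Ω u := pow_mem hr _
  set k := r₁ * r₁ with hkdef
  have hk : k ∈ lineKer Ω u := mul_mem hr₁ hr₁
  have hkpow : k = r ^ 2 ^ (i + 1) := by rw [hkdef, hr₁def, ← pow_add]; ring_nf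
  have hk2 : k * k = 1 := by
    rw [hkpow, ← pow_add, ← two_mul, ← pow_succ', ← hj, pow_orderOf_eq_one]
  have hk1 : k ≠ 1 := fun e => by
    have := Nat.le_of_dvd (by positivity) (orderOf_dvd_of_pow_eq_one (hkpow ▸ e))
    rw [hj, pow_succ] at this
    have := Nat.two_pow_pos (i + 1)
    omega
  obtain ⟨α, hα, hαs⟩ := S.exists_isScalar hc hk hk2 hk1
  -- conjugates of the roots of `k`
  have key : ∀ {t a s : G}, t ∈ moveGroup u E → a ∈ E → t * u * t⁻¹ = u * a → s ∈ lineKer Ω u →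
      s * s = k → ∃ q ∈ Q, ∃ s' ∈ lineKer Ω u, t * s * t⁻¹ = q * s' ∧ s' * s' = k ∧
        q * q = α * a * α⁻¹ := by
    intro t a s ht ha htu hs hss
    have hzE : ∀ e ∈ E, Commute (t * s * t⁻¹) e := fun e he =>
      ((ht.1 e he).mul_left (S.ker_commute_E hc hs he).symm).mul_left (ht.1 e he).inv_left
    obtain ⟨q, hq, s', hs', hqs⟩ := S.mem_cent hc hzE
      (S.commute_u_of_commute_mul hc ha hzE (htu ▸ commute_conj (mem_lineKer.mp hs).2 t))
    have h1 : (q * q) * (s' * s') = (α * a * α⁻¹) * k := by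
      calc (q * q) * (s' * s') = (q * s') * (q * s') := by
            rw [mul_assoc q s', ← mul_assoc s' q, ← (S.ker_commute_Q hc hs' hq).eq]; group
        _ = t * (s * s) * t⁻¹ := by rw [← hqs]; group
        _ = _ := by
            rw [hss, S.conj_ker_of_sq hc ht ha htu hk hk2 hk1 hα hαs,
              (S.ker_commute_E hc hk (S.conj_A_E hc hα ha)).eq]
    obtain ⟨h2, h3⟩ := S.decomp_unique hc (mul_mem hq hq) (S.line.E_le (S.conj_A_E hc hα ha))
      (mul_mem hs' hs') hk h1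
    exact ⟨q, hq, s', hs', hqs, h3, h2⟩
  refine S.ne (le_antisymm (fun q₂ hq₂ => S.cent q₂ hq₂ fun q₁ hq₁ => ?_) S.line.E_le)
  have hval : ∀ {q : G}, q ∈ Q → ∃ a ∈ E, α * a * α⁻¹ = q * q := fun {q} hq =>
    ⟨α⁻¹ * (q * q) * α⁻¹⁻¹, S.conj_A_E hc (inv_mem hα) (S.line.sq_mem q hq), by group⟩
  obtain ⟨a₁, ha₁, hqa₁⟩ := hval hq₁
  obtain ⟨a₂, ha₂, hqa₂⟩ := hval hq₂
  obtain ⟨t₁, ht₁, ht₁u⟩ := S.exists_move hc ha₁
  obtain ⟨t₂, ht₂, ht₂u⟩ := S.exists_move hc ha₂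
  obtain ⟨q', hq', s₂, hs₂, e₂, hss₂, hq'2⟩ := key ht₂ ha₂ ht₂u hr₁ rfl
  obtain ⟨q₃, hq₃, s₃, hs₃, e₃, -, hq₃2⟩ := key ht₁ ha₁ ht₁u hs₂ hss₂
  have hzE : ∀ e ∈ E, Commute (t₁ * q' * t₁⁻¹) e := fun e he =>
    ((ht₁.1 e he).mul_left (S.line.central e he q' hq').symm).mul_left (ht₁.1 e he).inv_left
  obtain ⟨q'', hq'', s'', hs'', e''⟩ := S.mem_cent hc hzE
    (S.commute_u_of_commute_mul hc ha₁ hzE (ht₁u ▸ commute_conj (line2_commute S.line hq') t₁))
  have hq''2 : q'' * q'' = q' * q' := by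
    have h1 : (q'' * q'') * (s'' * s'') = q' * q' * 1 := by
      rw [mul_one]
      calc (q'' * q'') * (s'' * s'') = (q'' * s'') * (q'' * s'') := by
            rw [mul_assoc q'' s'', ← mul_assoc s'' q'', ← (S.ker_commute_Q hc hs'' hq'').eq]; group
        _ = t₁ * (q' * q') * t₁⁻¹ := by rw [← e'']; group
        _ = q' * q' := conj_eq_of_commute (ht₁.1 _ (S.line.sq_mem q' hq'))
    exact (S.decomp_unique hc (mul_mem hq'' hq'') (mul_mem hq' hq') (mul_mem hs'' hs'') (one_mem _) h1).1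
  obtain ⟨q₄, hq₄, s₄, hs₄, e₄, -, hq₄2⟩ := key (mul_mem ht₁ ht₂) (mul_mem ha₂ ha₁)
    (show t₁ * t₂ * u * (t₁ * t₂)⁻¹ = u * (a₂ * a₁) by
      rw [show t₁ * t₂ * u * (t₁ * t₂)⁻¹ = t₁ * (t₂ * u * t₂⁻¹) * t₁⁻¹ by group, ht₂u,
        show t₁ * (u * a₂) * t₁⁻¹ = (t₁ * u * t₁⁻¹) * (t₁ * a₂ * t₁⁻¹) by group, ht₁u,
        conj_eq_of_commute (ht₁.1 a₂ ha₂), mul_assoc, (S.E_comm ha₁ ha₂).eq]) hr₁ rfl
  have hq4 : q'' * q₃ = q₄ := by
    refine (S.decomp_unique hc (mul_mem hq'' hq₃) hq₄ (mul_mem hs'' hs₃) hs₄ ?_).1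
    rw [← e₄, show t₁ * t₂ * r₁ * (t₁ * t₂)⁻¹ = t₁ * (t₂ * r₁ * t₂⁻¹) * t₁⁻¹ by group, e₂,
      show t₁ * (q' * s₂) * t₁⁻¹ = (t₁ * q' * t₁⁻¹) * (t₁ * s₂ * t₁⁻¹) by group, e'', e₃,
      mul_assoc q'' q₃, ← mul_assoc q₃ s'' s₃, (S.ker_commute_Q hc hs'' hq₃).eq]
    group
  -- `q₂ q₁` squares to the product of the squares
  have hd : ∀ {q p : G}, q ∈ Q → p ∈ Q → p * p = q * q → ∃ e ∈ E, p = e * q := fun {q p} hq hp e =>
    ⟨p * q⁻¹, S.inj p hp q hq e, by group⟩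
  obtain ⟨c₂, hc₂, rfl⟩ := hd hq₂ hq'' (by rw [hq''2, hq'2, hqa₂])
  obtain ⟨c₁, hc₁, rfl⟩ := hd hq₁ hq₃ (by rw [hq₃2, hqa₁])
  have hsq : (q₂ * q₁) * (q₂ * q₁) = (q₂ * q₂) * (q₁ * q₁) := by
    have hcomm : c₂ * q₂ * (c₁ * q₁) = (c₂ * c₁) * (q₂ * q₁) := by
      rw [mul_assoc c₂ q₂, ← mul_assoc q₂ c₁ q₁, ← (S.line.central c₁ hc₁ q₂ hq₂).eq]; group
    have hcc : ∀ {c p : G}, c ∈ E → p ∈ Q → c * p * (c * p) = p * p := fun {c p} hc' hp => by
      rw [mul_assoc c p, ← mul_assoc p c p, ← (S.line.central c hc' p hp).eq,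
        show c * (c * p * p) = c * c * (p * p) by group, S.E_sq hc hc', one_mul]
    rw [← hcc (mul_mem hc₂ hc₁) (mul_mem hq₂ hq₁), ← hcomm, hq4, hq₄2, ← hqa₂, ← hqa₁]
    group
  rw [mul_assoc q₂ q₁ (q₂ * q₁), mul_assoc q₂ q₂ (q₁ * q₁)] at hsq
  have h2 := mul_left_cancel hsq
  rw [← mul_assoc, ← mul_assoc] at h2
  exact (mul_right_cancel h2).symm

theorem ker_comm {k k' : G} (hk : k ∈ lineKer Ω u) (hk' : k' ∈ lineKer Ω u) : Commute k k' := by
  have h1 := S.ker_mul_self hc (mul_mem hk hk')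
  have hinv : ∀ {r : G}, r ∈ lineKer Ω u → r⁻¹ = r := fun hr =>
    inv_eq_of_mul_eq_one_right (S.ker_mul_self hc hr)
  show k * k' = k' * k
  rw [eq_inv_of_mul_eq_one_left h1, mul_inv_rev, hinv hk, hinv hk']

/-- The translations centralise the kernel modulo `E`, moving it by the scalars. -/
theorem conj_ker {t a k α : G} (ht : t ∈ moveGroup u E) (ha : a ∈ E) (htu : t * u * t⁻¹ = u * a)
    (hk : k ∈ lineKer Ω u) (hk1 : k ≠ 1) (hα : α ∈ A) (hαs : IsScalar Ω u k E α) :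
    t * k * t⁻¹ = k * (α * a * α⁻¹) :=
  S.conj_ker_of_sq hc ht ha htu hk (S.ker_mul_self hc hk) hk1 hα hαs

theorem exists_scalar_ker {k : G} (hk : k ∈ lineKer Ω u) (hk1 : k ≠ 1) :
    ∃ α ∈ A, IsScalar Ω u k E α :=
  S.exists_isScalar hc hk (S.ker_mul_self hc hk) hk1

theorem lineGroup_eq {k : G} (hk : k ∈ lineKer Ω u) (hk1 : k ≠ 1) (hku : k ≠ u) :
    lineGroup D k = lineGroup D u := by
  have hq : Quad Ω D k u x y := quad_of_pair hc.two
    (orderOf_eq_two_of_mul_self (S.ker_mul_self hc hk) hk1) S.quad.bu.1 (mem_lineKer.mp hk).2 hku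
    S.quad.ne ⟨(S.ker_smul hk).1, S.quad.hx.1⟩ ⟨(S.ker_smul hk).2, S.quad.hy.1⟩
  have hF : fixedBy Ω k = fixedBy Ω u := hc.same k u x y hq
  refine congrArg Subgroup.closure (Set.ext fun d => ⟨fun hd => ⟨hd.1, ?_⟩, fun hd => ⟨hd.1, ?_⟩⟩)
  · exact mem_centralizer_singleton_iff.mpr (commute_fixing_of_member hc.crit hc.lines hc.two hc.same hq
      ⟨hd.1, mem_centralizer_singleton_iff.mp hd.2⟩ (by rw [hF]; exact mem_fixing_iff.mpr fun _ h => h)).eq
  · exact mem_centralizer_singleton_iff.mpr (commute_fixing_of_member hc.crit hc.lines hc.two hc.same S.quad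
      ⟨hd.1, mem_centralizer_singleton_iff.mp hd.2⟩ (mem_lineKer.mp hk).1).eq

/-- The structure seen from another involution of the kernel. -/
theorem swap_ker {k : G} (hk : k ∈ lineKer Ω u) (hk1 : k ≠ 1) (hku : k ≠ u) :
    ShapeTwo D k u x y E Q A := by
  have hq : Quad Ω D k u x y := quad_of_pair hc.two
    (orderOf_eq_two_of_mul_self (S.ker_mul_self hc hk) hk1) S.quad.bu.1 (mem_lineKer.mp hk).2 hku
    S.quad.ne ⟨(S.ker_smul hk).1, S.quad.hx.1⟩ ⟨(S.ker_smul hk).2, S.quad.hy.1⟩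
  have hL := S.lineGroup_eq hc hk hk1 hku
  obtain ⟨E', Q', hl⟩ := hc.lines k x hq.bu hq.hx.1
  obtain rfl : E' = E := SetLike.ext fun g =>
    (mem_E_iff hc.crit hc.lines hc.two hc.same hq hq.hx.1 hl).trans (S.mem_E hc).symm
  obtain rfl : Q' = Q := le_antisymm
    (H6.Asch.le_Q_of_two hc S.quad S.line hl.isPGroup (hL ▸ hl.Q_le))
    (H6.Asch.le_Q_of_two hc hq hl S.line.isPGroup (hL.symm ▸ S.line.Q_le))
  exact ⟨hq, hl, S.inj, S.cent, S.ne, hL.symm ▸ S.A_le, S.A_norm, S.A_cyclic, S.A_trans⟩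

theorem lineKer_eq {k : G} (hk : k ∈ lineKer Ω u) (hk1 : k ≠ 1) : lineKer Ω k = lineKer Ω u := by
  by_cases hku : k = u
  · rw [hku]
  have S' := S.swap_ker hc hk hk1 hku
  have hF : fixedBy Ω k = fixedBy Ω u := hc.same k u x y S'.quad
  ext g
  rw [mem_lineKer, mem_lineKer, hF]
  refine and_congr_right fun hg => ⟨fun hgk => ?_, fun hgu => S.ker_comm hc (mem_lineKer.mpr ⟨hg, hgu⟩) hk⟩
  exact S'.ker_comm hc (mem_lineKer.mpr ⟨by rw [hF]; exact hg, hgk⟩) (S'.v_mem_ker hc)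

theorem mem_cent_invol_ker {g k : G} (hk : k ∈ lineKer Ω u) (hk1 : k ≠ 1)
    (hgE : ∀ e ∈ E, Commute g e) (hgk : Commute g k) (hg : g * g = 1) :
    ∃ e ∈ E, ∃ k' ∈ lineKer Ω u, g = e * k' := by
  by_cases hku : k = u
  · obtain ⟨e, he, k', hk', -, e1⟩ := S.mem_cent_invol hc hgE (hku ▸ hgk) hg
    exact ⟨e, he, k', hk', e1⟩
  · obtain ⟨e, he, k', hk', -, e1⟩ := (S.swap_ker hc hk hk1 hku).mem_cent_invol hc hgE hgk hg
    exact ⟨e, he, k', S.lineKer_eq hc hk hk1 ▸ hk', e1⟩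

/-- An element centralising `E` moving `u` into the kernel times `E` normalises the kernel modulo `E`
and multiplies the scalars. -/
theorem conj_ker_stab {g k e k' γ δ : G} (hgE : ∀ a ∈ E, Commute g a) (hk : k ∈ lineKer Ω u)
    (he : e ∈ E) (hgu : g * u * g⁻¹ = k * e) (hδ : δ ∈ A) (hδs : IsScalar Ω u k E δ)
    (hk' : k' ∈ lineKer Ω u) (hk'1 : k' ≠ 1) (hγ : γ ∈ A) (hγs : IsScalar Ω u k' E γ) :
    ∃ k'' ∈ lineKer Ω u, k'' ≠ 1 ∧ ∃ e' ∈ E, g * k' * g⁻¹ = k'' * e' ∧ IsScalar Ω u k'' E (γ * δ) := by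
  have hk1 : k ≠ 1 := fun e1 => S.not_mem_E_of_fix (S.u_mem_ker hc)
    (fun e' => by have := S.quad.bu.1; rw [e', orderOf_one] at this; omega) (by
    rw [e1, one_mul] at hgu
    have : u = e := by
      calc u = g⁻¹ * (g * u * g⁻¹) * g := by group
        _ = e := by rw [hgu, mul_assoc, ← (hgE e he).eq, inv_mul_cancel_left]
    rw [this]; exact he)
  set z := g * k' * g⁻¹ with hz
  have hzE : ∀ a ∈ E, Commute z a := fun a ha =>
    ((hgE a ha).mul_left (S.ker_commute_E hc hk' ha).symm).mul_left (hgE a ha).inv_left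
  have hzk : Commute z k := by
    have h1 := commute_conj (mem_lineKer.mp hk').2 g
    rw [hgu] at h1
    have := h1.mul_right (hzE e he)
    rwa [mul_assoc k e e, S.E_sq hc he, mul_one] at this
  obtain ⟨e', he', k'', hk'', hzk''⟩ := S.mem_cent_invol_ker hc hk hk1 hzE hzk (by
    rw [hz, show g * k' * g⁻¹ * (g * k' * g⁻¹) = g * (k' * k') * g⁻¹ by group,
      S.ker_mul_self hc hk']; group)
  rw [(S.ker_commute_E hc hk'' he').eq] at hzk''
  have hk''1 : k'' ≠ 1 := fun e1 => S.not_mem_E_of_fix hk' hk'1 (by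
    rw [e1, one_mul] at hzk''
    have : k' = e' := by
      calc k' = g⁻¹ * z * g := by rw [hz]; group
        _ = e' := by rw [hzk'', mul_assoc, ← (hgE e' he').eq, inv_mul_cancel_left]
    rw [this]; exact he')
  obtain ⟨η, hη, hηs⟩ := S.exists_scalar_ker hc hk'' hk''1
  have hδi : ∀ a ∈ E, δ⁻¹ * a * δ⁻¹⁻¹ ∈ E := fun a ha => S.conj_A_E hc (inv_mem hδ) ha
  have hpair : ∀ a ∈ E, e' * (γ * a * γ⁻¹) = η * (δ⁻¹ * (e * a) * δ⁻¹⁻¹) * η⁻¹ := by
    intro a ha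
    refine S.pair_unique hc (k := k'') (hδi _ (mul_mem he ha)) (mul_mem he' (S.conj_A_E hc hγ ha))
      (S.conj_A_E hc hη (hδi _ (mul_mem he ha))) ?_ (hηs _ (hδi _ (mul_mem he ha)))
    have h1 := fixedBy_conj_eq (hγs a ha) g
    rw [show g * (k' * (γ * a * γ⁻¹)) * g⁻¹ = z * (g * (γ * a * γ⁻¹) * g⁻¹) by rw [hz]; group,
      conj_eq_of_commute (hgE _ (S.conj_A_E hc hγ ha)),
      show g * (u * a) * g⁻¹ = (g * u * g⁻¹) * (g * a * g⁻¹) by group, hgu,
      conj_eq_of_commute (hgE a ha), hzk'', mul_assoc, mul_assoc k e] at h1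
    have h2 := hδs _ (hδi _ (mul_mem he ha))
    rw [show δ * (δ⁻¹ * (e * a) * δ⁻¹⁻¹) * δ⁻¹ = e * a by group] at h2
    exact h1.trans h2
  refine ⟨k'', hk'', hk''1, e', he', hzk'', fun a ha => ?_⟩
  have h1 : e' = η * (δ⁻¹ * e * δ⁻¹⁻¹) * η⁻¹ := by simpa using hpair 1 (one_mem E)
  have hcalc : ∀ b ∈ E, γ * b * γ⁻¹ = η * (δ⁻¹ * b * δ⁻¹⁻¹) * η⁻¹ := fun b hb => by
    have h2 := hpair b hb
    rw [h1, show η * (δ⁻¹ * (e * b) * δ⁻¹⁻¹) * η⁻¹ =
      η * (δ⁻¹ * e * δ⁻¹⁻¹) * η⁻¹ * (η * (δ⁻¹ * b * δ⁻¹⁻¹) * η⁻¹) by group] at h2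
    exact mul_left_cancel h2
  have h3 : γ * δ * a * (γ * δ)⁻¹ = η * a * η⁻¹ := by
    rw [show γ * δ * a * (γ * δ)⁻¹ = γ * (δ * a * δ⁻¹) * γ⁻¹ by group,
      hcalc _ (S.conj_A_E hc hδ ha)]
    group
  rw [h3]
  exact hηs a ha

theorem card_ker_le : Nat.card (lineKer Ω u) ≤ Nat.card E := by
  obtain ⟨a, ha, ha1, -⟩ := line2_exists_ne S.line (a := 1)
  classical
  have hex : ∀ k : lineKer Ω u, (k : G) ≠ 1 → ∃ b ∈ E, fixedBy Ω ((k : G) * b) = fixedBy Ω (u * a) :=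
    fun k hk => by
      obtain ⟨α, hα, hs⟩ := S.exists_scalar_ker hc k.2 hk
      exact ⟨_, S.conj_A_E hc hα ha, hs a ha⟩
  let f : lineKer Ω u → E := fun k =>
    if hk : (k : G) ≠ 1 then ⟨_, (hex k hk).choose_spec.1⟩ else 1
  refine Nat.card_le_card_of_injective f fun k k' hkk => ?_
  have hne : ∀ k : lineKer Ω u, (k : G) ≠ 1 → f k ≠ 1 := by
    intro k hk e
    have h1 := (hex k hk).choose_spec.2
    simp only [f, dif_pos hk] at e
    rw [show (hex k hk).choose = 1 from congrArg Subtype.val e, mul_one,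
      S.fixedBy_ker hc (S.exists_scalar_ker hc k.2 hk).choose_spec.2] at h1
    obtain ⟨c, hcu, hca⟩ := hc.exists_perp_point S.quad S.line ha ha1
    exact hcu ((Set.ext_iff.mp h1 c).mpr hca)
  by_cases hk : (k : G) ≠ 1
  · by_cases hk' : (k' : G) ≠ 1
    · simp only [f, dif_pos hk, dif_pos hk'] at hkk
      have h2 := (hex k' hk').choose_spec.2
      rw [← show (hex k hk).choose = (hex k' hk').choose from congrArg Subtype.val hkk] at h2
      exact Subtype.ext (S.pair_inj hc k.2 k'.2 (S.ker_mul_self hc k'.2) ha ha1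
        (hex k hk).choose_spec.1 (hex k hk).choose_spec.2 h2)
    · exact absurd (hkk.trans (dif_neg hk')) (hne k hk)
  · by_cases hk' : (k' : G) ≠ 1
    · exact absurd (hkk.symm.trans (dif_neg hk)) (hne k' hk')
    · push Not at hk hk'
      exact Subtype.ext (hk.trans hk'.symm)

theorem four_le_ker : 4 ≤ Nat.card (lineKer Ω u) := by
  haveI : Fact (Nat.Prime 2) := ⟨Nat.prime_two⟩
  have hu := S.u_mem_ker hc
  have hv := S.v_mem_ker hc
  obtain ⟨n, hn⟩ := IsPGroup.iff_card.mp (S.isPGroup_ker hc)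
  have h3 : 3 ≤ Nat.card (lineKer Ω u) := by
    have hinj : Function.Injective ![(1 : lineKer Ω u), ⟨u, hu⟩, ⟨v, hv⟩] := by
      have h1 : (1 : G) ≠ u := fun e => by
        have := S.quad.bu.1; rw [← e, orderOf_one] at this; omega
      have h2 : (1 : G) ≠ v := fun e => by
        have := S.quad.bv.1; rw [← e, orderOf_one] at this; omega
      have h3 : u ≠ v := fun e => by
        have := S.quad.bw.1; rw [← e, S.uu, orderOf_one] at this; omega
      intro i j hij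
      fin_cases i <;> fin_cases j <;> simp_all [Subtype.ext_iff, eq_comm]
    simpa using Nat.card_le_card_of_injective _ hinj
  rcases n with _ | _ | n
  · rw [hn] at h3; norm_num at h3
  · rw [hn] at h3; norm_num at h3
  · rw [hn]
    calc 4 = 2 ^ 2 := rfl
      _ ≤ _ := Nat.pow_le_pow_right two_pos (by omega)

theorem card_Q : Nat.card Q = Nat.card E ^ 2 := by
  classical
  have hne : Nat.card Q ≠ Nat.card E := fun e => S.ne (eq_of_le_of_card_ge S.line.E_le e.le).symm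
  have hle : Nat.card Q ≤ Nat.card E ^ 2 := by
    let rep : E → G := fun e => if hex : ∃ g ∈ Q, g * g = e then hex.choose else 1
    have hrep : ∀ g ∈ Q, ∀ hgE : g * g ∈ E, g * (rep ⟨g * g, hgE⟩)⁻¹ ∈ E := by
      intro g hg hgE
      have hex : ∃ a ∈ Q, a * a = g * g := ⟨g, hg, rfl⟩
      simp only [rep, dif_pos hex]
      exact S.inj g hg _ hex.choose_spec.1 hex.choose_spec.2.symm
    rw [sq, ← Nat.card_prod]
    refine Nat.card_le_card_of_injective (fun g : Q =>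
      ((⟨(g : G) * g, S.line.sq_mem g g.2⟩ : E), (⟨_, hrep g g.2 (S.line.sq_mem g g.2)⟩ : E))) ?_
    intro a b hab
    simp only [Prod.mk.injEq] at hab
    obtain ⟨h1, h2⟩ := hab
    have h3 := congrArg Subtype.val h2
    simp only at h3
    rw [h1] at h3
    exact Subtype.ext (mul_right_cancel h3)
  rcases S.line.card_cases with e | e | e
  · exact absurd e hne
  · exact e
  · have := S.line.four_le
    have h2 : Nat.card E ^ 2 < Nat.card E ^ 3 := Nat.pow_lt_pow_right (by omega) (by norm_num)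
    omega

theorem eight_le : 8 ≤ Nat.card E := by
  haveI : Fact (Nat.Prime 2) := ⟨Nat.prime_two⟩
  obtain ⟨n, hn⟩ := IsPGroup.iff_card.mp (S.line.isPGroup.to_le S.line.E_le)
  have h4 := S.line.four_le
  have hne : Nat.card E ≠ 4 := fun e => S.line.card_four e (by rw [S.card_Q hc, e]; rfl)
  rcases n with _ | _ | _ | n <;> rw [hn] at h4 hne ⊢ <;> simp only [pow_succ, pow_zero] at * <;> omega

/-- The order of the group of translations. -/
theorem card_moveGroup :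
    Nat.card (moveGroup u E) = Nat.card E * Nat.card Q * Nat.card (lineKer Ω u) := by
  classical
  let ψ : moveGroup u E →* E :=
    MonoidHom.mk' (fun g => ⟨u⁻¹ * ((g : G) * u * (g : G)⁻¹), by
        obtain ⟨-, a, ha, e⟩ := g.2; rwa [e, inv_mul_cancel_left]⟩) fun g g' => Subtype.ext (by
      obtain ⟨hgE, a, ha, e⟩ := g.2
      obtain ⟨-, a', ha', e'⟩ := g'.2
      show u⁻¹ * ((g : G) * g' * u * ((g : G) * g')⁻¹) =
        u⁻¹ * ((g : G) * u * (g : G)⁻¹) * (u⁻¹ * ((g' : G) * u * (g' : G)⁻¹))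
      rw [e, e', inv_mul_cancel_left, inv_mul_cancel_left,
        show (g : G) * g' * u * ((g : G) * g')⁻¹ = (g : G) * ((g' : G) * u * (g' : G)⁻¹) * (g : G)⁻¹ by group,
        e', show (g : G) * (u * a') * (g : G)⁻¹ = ((g : G) * u * (g : G)⁻¹) * ((g : G) * a' * (g : G)⁻¹) by group,
        e, conj_eq_of_commute (hgE a' ha'), mul_assoc, inv_mul_cancel_left])
  have hsurj : Function.Surjective ψ := fun a => by
    obtain ⟨t, ht, htu⟩ := S.exists_move hc a.2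
    exact ⟨⟨t, ht⟩, Subtype.ext (show u⁻¹ * (t * u * t⁻¹) = a by rw [htu, inv_mul_cancel_left])⟩
  let m : Q × lineKer Ω u → ψ.ker := fun p => ⟨⟨(p.1 : G) * p.2,
      fun e he => (S.line.central e he _ p.1.2).symm.mul_left (S.ker_commute_E hc p.2.2 he).symm,
      1, one_mem E, by
        rw [mul_one]
        exact conj_eq_of_commute ((line2_commute S.line p.1.2).mul_left (mem_lineKer.mp p.2.2).2)⟩,
    Subtype.ext (show u⁻¹ * ((p.1 : G) * p.2 * u * ((p.1 : G) * p.2)⁻¹) = 1 by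
      rw [conj_eq_of_commute ((line2_commute S.line p.1.2).mul_left (mem_lineKer.mp p.2.2).2),
        inv_mul_cancel])⟩
  have hm : Function.Bijective m := by
    refine ⟨fun p p' e => ?_, fun ⟨⟨g, hg⟩, hgk⟩ => ?_⟩
    · obtain ⟨h1, h2⟩ := S.decomp_unique hc p.1.2 p'.1.2 p.2.2 p'.2.2
        (congrArg (fun z : ψ.ker => ((z : moveGroup u E) : G)) e)
      exact Prod.ext (Subtype.ext h1) (Subtype.ext h2)
    · have hgu : Commute g u := commute_of_conj_eq (inv_mul_eq_one.mp (congrArg Subtype.val hgk)).symm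
      obtain ⟨q, hq, k, hk, e⟩ := S.mem_cent hc hg.1 hgu
      exact ⟨(⟨q, hq⟩, ⟨k, hk⟩), Subtype.ext (Subtype.ext e.symm)⟩
  rw [← Subgroup.index_mul_card ψ.ker, Subgroup.index_ker, MonoidHom.range_eq_top.mpr hsurj,
    Subgroup.card_top, ← Nat.card_congr (Equiv.ofBijective m hm), Nat.card_prod, mul_assoc]

theorem isPGroup_moveGroup : IsPGroup 2 (moveGroup u E) := by
  haveI : Fact (Nat.Prime 2) := ⟨Nat.prime_two⟩
  obtain ⟨a, ha⟩ := IsPGroup.iff_card.mp (S.line.isPGroup.to_le S.line.E_le)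
  obtain ⟨b, hb⟩ := IsPGroup.iff_card.mp S.line.isPGroup
  obtain ⟨c, hc'⟩ := IsPGroup.iff_card.mp (S.isPGroup_ker hc)
  exact IsPGroup.of_card (n := a + b + c) (by rw [S.card_moveGroup hc, ha, hb, hc', pow_add, pow_add])

theorem E_le_move : E ≤ moveGroup u E := fun e he =>
  ⟨fun e' he' => S.E_comm he he', 1, one_mem E, by
    rw [mul_one]; exact conj_eq_of_commute (S.E_commute_u he)⟩

theorem ker_le_move : lineKer Ω u ≤ moveGroup u E := fun k hk =>
  ⟨fun e he => (S.ker_commute_E hc hk he).symm, 1, one_mem E, by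
    rw [mul_one]; exact conj_eq_of_commute (mem_lineKer.mp hk).2⟩

theorem Q_le_move : Q ≤ moveGroup u E := fun q hq =>
  ⟨fun e he => (S.line.central e he q hq).symm, 1, one_mem E, by
    rw [mul_one]; exact conj_eq_of_commute (line2_commute S.line hq)⟩

end ShapeTwo

end Cfsg.Agent.H3.Asch
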